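import Mathlib.RingTheory.Flat.EquationalCriterion
import Mathlib.RingTheory.Flat.Tensor
import Mathlib.RingTheory.Filtration
import Mathlib.RingTheory.AdicCompletion.Noetherian

set_option autoImplicit false

open TensorProduct

namespace Groth.Agent.CAlg7

section

variable {A B N P : Type*} [CommRing A] [CommRing B] [Algebra A B] [AddCommGroup N] [Module B N]
  [Module A N] [IsScalarTower A B N] [AddCommGroup P] [Module A P]

theorem tmul_mem_smul_top {J : Ideal B} {n : N} (hn : n ∈ J • (⊤ : Submodule B N)) (p : P) :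
    n ⊗ₜ[A] p ∈ J • (⊤ : Submodule B (N ⊗[A] P)) := by
  refine Submodule.smul_induction_on hn (fun r hr m _ => ?_) (fun x y hx hy => ?_)
  · rw [← TensorProduct.smul_tmul']
    exact Submodule.smul_mem_smul hr trivial
  · rw [TensorProduct.add_tmul]
    exact add_mem hx hy

theorem finite_tensor (A B N P : Type*) [CommRing A] [CommRing B] [Algebra A B] [AddCommGroup N]
    [Module B N] [Module A N] [IsScalarTower A B N] [AddCommGroup P] [Module A P]
    [Module.Finite A P] [Module.Finite B N] : Module.Finite B (N ⊗[A] P) := by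
  classical
  obtain ⟨s, hs⟩ := (Module.Finite.fg_top : (⊤ : Submodule B N).FG)
  obtain ⟨t, ht⟩ := (Module.Finite.fg_top : (⊤ : Submodule A P).FG)
  refine ⟨⟨(s ×ˢ t).image fun x => x.1 ⊗ₜ[A] x.2, ?_⟩⟩
  rw [eq_top_iff]
  intro x hxtop
  clear hxtop
  induction x using TensorProduct.induction_on with
  | zero => simp
  | add x y hx hy => exact add_mem hx hy
  | tmul n p =>
    have hp : p ∈ Submodule.span A (t : Set P) := ht.symm ▸ trivial
    induction hp using Submodule.span_induction with
    | zero => simp
    | add a b _ _ ha hb => rw [TensorProduct.tmul_add]; exact add_mem ha hb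
    | smul a b _ hb =>
      rw [TensorProduct.tmul_smul, ← algebraMap_smul B a (n ⊗ₜ[A] b)]
      exact Submodule.smul_mem _ _ hb
    | mem b hb =>
      have hn : n ∈ Submodule.span B (s : Set N) := hs.symm ▸ trivial
      induction hn using Submodule.span_induction with
      | zero => simp
      | add c d _ _ hc hd => rw [TensorProduct.add_tmul]; exact add_mem hc hd
      | smul c d _ hd => rw [← TensorProduct.smul_tmul']; exact Submodule.smul_mem _ _ hd
      | mem c hc =>
        apply Submodule.subset_span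
        simp only [Finset.coe_image, Set.mem_image, Finset.mem_coe, Finset.mem_product]
        exact ⟨(c, b), ⟨hc, hb⟩, rfl⟩

theorem eq_zero_of_forall_mem_smul [IsNoetherianRing B] [Module.Finite B N]
    (I : Ideal B) (hI : I ≤ Ideal.jacobson ⊥) (x : N)
    (h : ∀ n, x ∈ I ^ n • (⊤ : Submodule B N)) : x = 0 := by
  have := (Submodule.mem_iInf (fun n : ℕ => I ^ n • (⊤ : Submodule B N))).2 h
  rwa [Ideal.iInf_pow_smul_eq_bot_of_le_jacobson (M := N) I hI, Submodule.mem_bot] at this

/-- If all N/IⁿN are flat over A, then so is N. -/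
theorem flat_of_forall_flat_quotient_pow [IsNoetherianRing B] [Module.Finite B N]
    (I : Ideal B) (hI : I ≤ Ideal.jacobson ⊥)
    (h : ∀ n : ℕ, Module.Flat A (N ⧸ (I ^ n • (⊤ : Submodule B N)))) : Module.Flat A N := by
  rw [Module.Flat.iff_lTensor_injective]
  intro J hJ
  have : Module.Finite A J := Module.Finite.iff_fg.2 hJ
  have : Module.Finite B (N ⊗[A] J) := finite_tensor A B N J
  rw [injective_iff_map_eq_zero]
  intro x hx
  refine eq_zero_of_forall_mem_smul I hI x fun n => ?_
  have := h n
  let K : Submodule B N := I ^ n • ⊤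
  let i : K →ₗ[A] N := K.subtype.restrictScalars A
  let q : N →ₗ[A] (N ⧸ K) := K.mkQ.restrictScalars A
  have hiq : Function.Exact i q := fun y =>
    (LinearMap.exact_subtype_mkQ K) y
  have hq : Function.Surjective q := Submodule.mkQ_surjective K
  have hcomm : J.subtype.lTensor (N ⧸ K) (q.rTensor J x) =
      q.rTensor A (J.subtype.lTensor N x) := by
    rw [← LinearMap.comp_apply, ← LinearMap.comp_apply, LinearMap.lTensor_comp_rTensor,
      LinearMap.rTensor_comp_lTensor]
  rw [hx, map_zero] at hcomm
  have h0 : q.rTensor J x = 0 :=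
    (injective_iff_map_eq_zero _).1
      (Module.Flat.lTensor_preserves_injective_linearMap _ J.injective_subtype) _ hcomm
  obtain ⟨y, rfl⟩ := ((rTensor_exact J hiq hq) x).1 h0
  clear hx hcomm h0
  induction y using TensorProduct.induction_on with
  | zero => simp
  | add a b ha hb => rw [map_add]; exact add_mem ha hb
  | tmul k p =>
    rw [LinearMap.rTensor_tmul]
    exact tmul_mem_smul_top k.2 p

/-- Extensions of flat modules are flat. -/
theorem flat_of_exact {M₁ M₂ M₃ : Type*} [AddCommGroup M₁] [Module A M₁] [AddCommGroup M₂]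
    [Module A M₂] [AddCommGroup M₃] [Module A M₃] (f : M₁ →ₗ[A] M₂) (g : M₂ →ₗ[A] M₃)
    (hf : Function.Injective f) (hg : Function.Surjective g) (hfg : Function.Exact f g)
    [Module.Flat A M₁] [Module.Flat A M₃] : Module.Flat A M₂ := by
  rw [Module.Flat.iff_lTensor_injective]
  intro J _
  rw [injective_iff_map_eq_zero]
  intro x hx
  have hcomm : J.subtype.lTensor M₃ (g.rTensor J x) = g.rTensor A (J.subtype.lTensor M₂ x) := by
    rw [← LinearMap.comp_apply, ← LinearMap.comp_apply, LinearMap.lTensor_comp_rTensor,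
      LinearMap.rTensor_comp_lTensor]
  rw [hx, map_zero] at hcomm
  have h0 : g.rTensor J x = 0 :=
    (injective_iff_map_eq_zero _).1
      (Module.Flat.lTensor_preserves_injective_linearMap _ J.injective_subtype) _ hcomm
  obtain ⟨y, rfl⟩ := ((rTensor_exact J hfg hg) x).1 h0
  have hcomm' : f.rTensor A (J.subtype.lTensor M₁ y) = J.subtype.lTensor M₂ (f.rTensor J y) := by
    rw [← LinearMap.comp_apply, ← LinearMap.comp_apply, LinearMap.lTensor_comp_rTensor,
      LinearMap.rTensor_comp_lTensor]
  rw [hx] at hcomm'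
  have hfA : Function.Injective (f.rTensor A) := by
    intro a b hab
    apply (TensorProduct.rid A M₁).injective
    apply hf
    have key : ∀ a, f (TensorProduct.rid A M₁ a) = TensorProduct.rid A M₂ (f.rTensor A a) := by
      intro a
      induction a using TensorProduct.induction_on with
      | zero => simp
      | add a b ha hb => simp [ha, hb]
      | tmul k p => simp
    rw [key, key, hab]
  rw [(injective_iff_map_eq_zero _).1
      (Module.Flat.lTensor_preserves_injective_linearMap _ J.injective_subtype) y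
      ((injective_iff_map_eq_zero _).1 hfA _ hcomm'), map_zero]

end

section

variable {R S M : Type*} [CommRing R] [CommRing S] [Algebra R S] [AddCommGroup M] [Module S M]
  [Module R M] [IsScalarTower R S M]

/-- Local criterion: flatness from flatness modulo the powers of an ideal of the base. -/
theorem flat_of_forall_flat_mod_pow [IsNoetherianRing R] [IsNoetherianRing S] [Module.Finite S M]
    (J : Ideal R) (hJ : J.map (algebraMap R S) ≤ Ideal.jacobson ⊥)
    (h : ∀ m : ℕ, 0 < m → Module.Flat (R ⧸ J ^ m) (M ⧸ (J ^ m • ⊤ : Submodule R M))) :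
    Module.Flat R M := by
  classical
  rw [Module.Flat.iff_lTensor_injective]
  intro a ha
  have : Module.Finite R a := Module.Finite.iff_fg.2 ha
  have : Module.Finite S (M ⊗[R] a) := finite_tensor R S M a
  rw [injective_iff_map_eq_zero]
  intro x hx
  refine eq_zero_of_forall_mem_smul _ hJ x fun n => ?_
  obtain ⟨k, hk⟩ := Ideal.exists_pow_inf_eq_pow_smul (M := R) J a
  let m := n + k + 1
  have hle : J ^ m ⊓ a ≤ J ^ n * a := by
    have := hk m (by omega)
    simp only [smul_eq_mul, Ideal.mul_top] at this
    rw [this]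
    exact Ideal.mul_mono (Ideal.pow_le_pow_right (by omega)) inf_le_right
  obtain ⟨S', hS'⟩ := TensorProduct.exists_finset x
  have hrel : ∑ i ∈ S', (i.2 : R) • i.1 = 0 := by
    have := congrArg (TensorProduct.rid R M) hx
    rw [hS'] at this
    simpa [map_sum] using this
  have := h m (by omega)
  let q := (J ^ m • ⊤ : Submodule R M).mkQ
  have hrel' : ∑ i : S', (Ideal.Quotient.mk (J ^ m) (i.1.2 : R)) • q i.1.1 = 0 := by
    rw [Finset.sum_coe_sort S' (fun i => (Ideal.Quotient.mk (J ^ m) (i.2 : R)) • q i.1)]
    have := congrArg q hrel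
    rw [map_sum, map_zero] at this
    refine (Finset.sum_congr rfl fun i _ => ?_).trans this
    rw [map_smul]
    rfl
  obtain ⟨l, c, y, hy, hc⟩ := Module.Flat.isTrivialRelation_of_sum_smul_eq_zero hrel'
  choose c' hc' using fun i j => Ideal.Quotient.mk_surjective (c i j)
  choose y' hy' using fun j => Submodule.mkQ_surjective _ (y j)
  let e : S' → M := fun i => i.1.1 - ∑ j, c' i j • y' j
  have he : ∀ i, e i ∈ (J ^ m • ⊤ : Submodule R M) := by
    intro i
    rw [← Submodule.Quotient.mk_eq_zero]
    show q (e i) = 0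
    rw [map_sub, sub_eq_zero, show q i.1.1 = _ from hy i, map_sum]
    refine Finset.sum_congr rfl fun j _ => ?_
    rw [map_smul, ← hc', ← hy']
    rfl
  have hb : ∀ j, (∑ i : S', c' i j • i.1.2 : a).1 ∈ J ^ n * a := by
    intro j
    refine hle ⟨?_, (∑ i : S', c' i j • i.1.2 : a).2⟩
    show (∑ i : S', c' i j • i.1.2 : a).1 ∈ J ^ m
    rw [← Ideal.Quotient.eq_zero_iff_mem, Submodule.coe_sum, map_sum]
    refine (Finset.sum_congr rfl fun i _ => ?_).trans (hc j)
    simp [hc', mul_comm]
  have hx' : x = (∑ j, y' j ⊗ₜ[R] (∑ i : S', c' i j • i.1.2 : a)) + ∑ i : S', e i ⊗ₜ[R] i.1.2 := by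
    rw [hS', ← Finset.sum_coe_sort S']
    have : ∀ i : S', (i.1.1 ⊗ₜ[R] i.1.2 : M ⊗[R] a) =
        (∑ j, y' j ⊗ₜ[R] (c' i j • i.1.2)) + e i ⊗ₜ[R] i.1.2 := by
      intro i
      simp only [e, TensorProduct.sub_tmul, TensorProduct.sum_tmul, TensorProduct.smul_tmul]
      abel
    rw [Finset.sum_congr rfl fun i _ => this i, Finset.sum_add_distrib, Finset.sum_comm]
    simp only [TensorProduct.tmul_sum]
  rw [hx']
  have hpow : ∀ {d : ℕ}, n ≤ d → ∀ {r : R}, r ∈ J ^ d →
      algebraMap R S r ∈ (J.map (algebraMap R S)) ^ n := by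
    intro d hd r hr
    rw [← Ideal.map_pow]
    exact Ideal.mem_map_of_mem _ (Ideal.pow_le_pow_right hd hr)
  refine add_mem (Submodule.sum_mem _ fun j _ => ?_) (Submodule.sum_mem _ fun i _ => ?_)
  · have hb' : (∑ i : S', c' i j • i.1.2 : a) ∈ (J ^ n • ⊤ : Submodule R a) :=
      (Submodule.mem_smul_top_iff _ _ _).2 (hb j)
    refine Submodule.smul_induction_on hb' (fun r hr s _ => ?_) (fun u v hu hv => ?_)
    · rw [TensorProduct.tmul_smul, ← algebraMap_smul S r]
      exact Submodule.smul_mem_smul (hpow le_rfl hr) trivial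
    · rw [TensorProduct.tmul_add]
      exact add_mem hu hv
  · refine tmul_mem_smul_top ?_ _
    refine Submodule.smul_induction_on (he i) (fun r hr z _ => ?_) (fun u v hu hv => add_mem hu hv)
    rw [← algebraMap_smul S r z]
    exact Submodule.smul_mem_smul (hpow (by omega) hr) trivial

end

end Groth.Agent.CAlg7
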