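import Mathlib.RingTheory.Flat.Tensor
import Mathlib.RingTheory.Regular.RegularSequence
import Mathlib.RingTheory.Artinian.Ring
import Mathlib.RingTheory.Ideal.Quotient.Basic
import Mathlib.LinearAlgebra.TensorProduct.RightExactness
import Mathlib.LinearAlgebra.TensorProduct.Quotient
import Mathlib.LinearAlgebra.DirectSum.Finsupp
import Mathlib.LinearAlgebra.FreeModule.Basic
import Mathlib.Algebra.Module.Torsion.Basic
import Mathlib.LinearAlgebra.Basis.VectorSpace
import Mathlib.RingTheory.Nilpotent.Basic

/-! Regular elements on flat modules over an Artinian local ring, and flatness of the quotients. -/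

universe u v w

open TensorProduct IsLocalRing
open scoped Pointwise

namespace Groth.Agent.CAlg7.ArtinFlat

variable {A : Type u} [CommRing A] [IsArtinianRing A] [IsLocalRing A]
variable {M : Type v} [AddCommGroup M] [Module A M]

theorem exists_socle {N : Type w} [AddCommGroup N] [Module A N] {a : N} (ha : a ≠ 0) :
    ∃ b : N, b ≠ 0 ∧ ∀ x ∈ maximalIdeal A, x • b = 0 := by
  classical
  obtain ⟨n, hn⟩ : IsNilpotent (maximalIdeal A) := by
    rw [← IsLocalRing.jacobson_eq_maximalIdeal (⊥ : Ideal A) bot_ne_top]; exact IsArtinianRing.isNilpotent_jacobson_bot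
  have h0 : ∃ j, ∀ x ∈ maximalIdeal A ^ j, x • a = 0 :=
    ⟨n, fun x hx => by rw [hn, Ideal.zero_eq_bot, Ideal.mem_bot] at hx; rw [hx, zero_smul]⟩
  match hj : Nat.find h0 with
  | 0 => exact absurd ((one_smul A a).symm.trans ((hj ▸ Nat.find_spec h0) 1 (by simp))) ha
  | j + 1 =>
    have := Nat.find_min h0 (show j < Nat.find h0 by omega)
    push Not at this
    obtain ⟨x, hx, hxa⟩ := this
    exact ⟨x • a, hxa, fun y hy => by
      rw [smul_smul]
      exact (hj ▸ Nat.find_spec h0) _ (by rw [pow_succ']; exact Ideal.mul_mem_mul hy hx)⟩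

theorem injective_rTensor_residue [Module.Flat A M] (φ : M →ₗ[A] M) {N : Type w} [AddCommGroup N] [Module A N]
    [Nontrivial N] (h : Function.Injective (φ.rTensor N)) :
    Function.Injective (φ.rTensor (A ⧸ maximalIdeal A)) := by
  obtain ⟨a, ha⟩ := exists_ne (0 : N)
  obtain ⟨b, hb, hbm⟩ := exists_socle (A := A) ha
  let ι : (A ⧸ maximalIdeal A) →ₗ[A] N :=
    Submodule.liftQ _ (LinearMap.toSpanSingleton A N b) fun x hx => hbm x hx
  have hι : Function.Injective ι := by
    refine (injective_iff_map_eq_zero _).2 fun z hz => ?_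
    obtain ⟨c, rfl⟩ := Submodule.Quotient.mk_surjective _ z
    refine (Submodule.Quotient.mk_eq_zero _).2 (by_contra fun hc => hb ?_)
    have hu : IsUnit c := by simpa using hc
    exact hu.smul_eq_zero.1 hz
  have hιM := Module.Flat.lTensor_preserves_injective_linearMap (M := M) ι hι
  intro x y hxy
  refine hιM (h ?_)
  have hcomp := fun z => LinearMap.congr_fun ((LinearMap.rTensor_comp_lTensor (f := φ) (g := ι)).trans
    (LinearMap.lTensor_comp_rTensor (f := φ) (g := ι)).symm) z
  have hx := hcomp x
  have hy := hcomp y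
  simp only [LinearMap.comp_apply] at hx hy
  rw [hx, hy, hxy]

theorem injective_rTensor_of_residue [Module.Flat A M] (φ : M →ₗ[A] M)
    (h : Function.Injective (φ.rTensor (A ⧸ maximalIdeal A))) (N : Type w) [AddCommGroup N] [Module A N] :
    Function.Injective (φ.rTensor N) := by
  classical
  suffices key : ∀ (j : ℕ) (P : Submodule A N), (maximalIdeal A ^ j • P) = ⊥ →
      Function.Injective (φ.rTensor P) by
    obtain ⟨n, hn⟩ : IsNilpotent (maximalIdeal A) := by
      rw [← IsLocalRing.jacobson_eq_maximalIdeal (⊥ : Ideal A) bot_ne_top]; exact IsArtinianRing.isNilpotent_jacobson_bot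
    have h1 := key n ⊤ (by rw [hn, Ideal.zero_eq_bot, Submodule.bot_smul])
    intro x y hxy
    let e := TensorProduct.congr (LinearEquiv.refl A M) (Submodule.topEquiv : (⊤ : Submodule A N) ≃ₗ[A] N)
    obtain ⟨x, rfl⟩ := e.surjective x
    obtain ⟨y, rfl⟩ := e.surjective y
    have hnat : ∀ z, φ.rTensor N (e z) = e (φ.rTensor (⊤ : Submodule A N) z) := by
      intro z
      induction z using TensorProduct.induction_on with
      | zero => simp
      | add a b ha hb => simp only [map_add, ha, hb]
      | tmul a b => simp [e]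
    rw [hnat, hnat] at hxy
    exact congrArg e (h1 (e.injective hxy))
  intro j
  induction j with
  | zero =>
    intro P hP
    rw [pow_zero, Ideal.one_eq_top, Submodule.top_smul] at hP
    subst hP
    exact Function.injective_of_subsingleton _
  | succ j ih =>
    intro P hP
    let P' : Submodule A N := maximalIdeal A • P
    have hP' : Function.Injective (φ.rTensor P') := ih P' (by
      show _ • _ • _ = _
      rw [← Submodule.smul_assoc, smul_eq_mul, ← pow_succ, hP])
    let i : P' →ₗ[A] P := Submodule.inclusion Submodule.smul_le_right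
    let Q := P ⧸ LinearMap.range i
    have hQ : ∀ (x : A) (q : Q), x ∈ maximalIdeal A → x • q = 0 := by
      intro x q hx
      obtain ⟨p, rfl⟩ := Submodule.Quotient.mk_surjective _ q
      rw [← Submodule.Quotient.mk_smul, Submodule.Quotient.mk_eq_zero]
      exact ⟨⟨x • (p : N), Submodule.smul_mem_smul hx p.2⟩, rfl⟩
    have hQinj : Function.Injective (φ.rTensor Q) := by
      have htor : Module.IsTorsionBySet A Q (maximalIdeal A) := fun q x => hQ x q x.2
      letI : Module (A ⧸ maximalIdeal A) Q := htor.module
      haveI : IsScalarTower A (A ⧸ maximalIdeal A) Q := htor.isScalarTower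
      letI : Field (A ⧸ maximalIdeal A) := Ideal.Quotient.field _
      let B := Module.Basis.ofVectorSpace (A ⧸ maximalIdeal A) Q
      let eB := B.repr.restrictScalars A
      let E := (TensorProduct.congr (LinearEquiv.refl A M) eB).trans
        (TensorProduct.finsuppRight A A M (A ⧸ maximalIdeal A) _)
      have hnat : ∀ z i, E (φ.rTensor Q z) i = φ.rTensor _ (E z i) := by
        intro z i
        induction z using TensorProduct.induction_on with
        | zero => simp
        | add a b ha hb => simp only [map_add, Finsupp.add_apply, ha, hb]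
        | tmul a b => simp [E]
      intro x y hxy
      refine E.injective (Finsupp.ext fun i => h ?_)
      rw [← hnat, ← hnat, hxy]
    intro x y hxy
    rw [← sub_eq_zero] at hxy ⊢
    rw [← map_sub] at hxy
    generalize x - y = z at hxy
    have hex : Function.Exact i (LinearMap.range i).mkQ := LinearMap.exact_iff.2 (Submodule.ker_mkQ _)
    have c2 := LinearMap.congr_fun ((LinearMap.rTensor_comp_lTensor (f := φ) (g := (LinearMap.range i).mkQ)).trans
      (LinearMap.lTensor_comp_rTensor (f := φ) (g := (LinearMap.range i).mkQ)).symm) z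
    simp only [LinearMap.comp_apply] at c2
    have h2 : (LinearMap.range i).mkQ.lTensor M z = 0 := hQinj (by rw [c2, hxy, map_zero, map_zero])
    obtain ⟨w, rfl⟩ := (lTensor_exact M hex (Submodule.mkQ_surjective _) z).1 h2
    have c1 := LinearMap.congr_fun ((LinearMap.rTensor_comp_lTensor (f := φ) (g := i)).trans
      (LinearMap.lTensor_comp_rTensor (f := φ) (g := i)).symm) w
    simp only [LinearMap.comp_apply] at c1
    rw [c1] at hxy
    have h3 := Module.Flat.lTensor_preserves_injective_linearMap (M := M) i
      (Submodule.inclusion_injective _) (hxy.trans (map_zero _).symm)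
    rw [hP' (h3.trans (map_zero _).symm), map_zero]

variable {S : Type v} [CommRing S] [Algebra A S] [Module S M] [IsScalarTower A S M]

omit [IsArtinianRing A] [IsLocalRing A] in
theorem restrictScalars_map_smul (I : Ideal A) :
    ((I.map (algebraMap A S)) • (⊤ : Submodule S M)).restrictScalars A = I • (⊤ : Submodule A M) := by
  apply le_antisymm
  · intro x hx
    rw [Submodule.restrictScalars_mem] at hx
    refine Submodule.smul_induction_on hx (fun r hr m _ => ?_) (fun a b ha hb => add_mem ha hb)
    have key : ∀ m : M, r • m ∈ I • (⊤ : Submodule A M) := by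
      induction hr using Submodule.span_induction with
      | mem r hr =>
        obtain ⟨a, ha, rfl⟩ := hr
        intro m
        rw [algebraMap_smul]
        exact Submodule.smul_mem_smul ha trivial
      | zero => intro m; rw [zero_smul]; exact zero_mem _
      | add a b _ _ ha hb => intro m; rw [add_smul]; exact add_mem (ha m) (hb m)
      | smul c a _ ha => intro m; rw [smul_assoc, smul_comm]; exact ha _
    exact key m
  · rw [Submodule.smul_le]
    intro a ha m _
    rw [Submodule.restrictScalars_mem, ← algebraMap_smul S a m]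
    exact Submodule.smul_mem_smul (Ideal.mem_map_of_mem _ ha) trivial

/-- Reduction of `M` modulo `I` as a tensor product. -/
noncomputable def redEquiv (I : Ideal A) :
    M ⊗[A] (A ⧸ I) ≃ₗ[A] M ⧸ (I.map (algebraMap A S) • (⊤ : Submodule S M)) :=
  ((TensorProduct.tensorQuotEquivQuotSMul M I).trans
    (Submodule.quotEquivOfEq _ _ (restrictScalars_map_smul (S := S) I).symm)).trans
    (Submodule.Quotient.restrictScalarsEquiv A _)

omit [IsArtinianRing A] [IsLocalRing A] in
theorem redEquiv_tmul (I : Ideal A) (m : M) (a : A) :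
    redEquiv (S := S) I (m ⊗ₜ Ideal.Quotient.mk I a) = Submodule.Quotient.mk (a • m) := by
  rfl

omit [IsArtinianRing A] [IsLocalRing A] in
theorem regular_red_iff (I : Ideal A) (s : S) :
    IsSMulRegular (M ⧸ (I.map (algebraMap A S) • (⊤ : Submodule S M))) s ↔
      Function.Injective ((Algebra.lsmul A A M s).rTensor (A ⧸ I)) := by
  have hnat : ∀ z, redEquiv (S := S) I ((Algebra.lsmul A A M s).rTensor (A ⧸ I) z) = s • redEquiv (S := S) I z := by
    intro z
    induction z using TensorProduct.induction_on with
    | zero => simp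
    | add a b ha hb => simp only [map_add, ha, hb, smul_add]
    | tmul m q =>
      obtain ⟨a, rfl⟩ := Ideal.Quotient.mk_surjective q
      rw [LinearMap.rTensor_tmul, redEquiv_tmul, redEquiv_tmul, ← Submodule.Quotient.mk_smul]
      exact congrArg _ (smul_comm _ _ _)
  constructor
  · intro h x y hxy
    exact (redEquiv (S := S) I).injective (h (by simp only [← hnat, hxy]))
  · intro h x y hxy
    obtain ⟨x, rfl⟩ := (redEquiv (S := S) I).surjective x
    obtain ⟨y, rfl⟩ := (redEquiv (S := S) I).surjective y
    simp only [← hnat] at hxy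
    exact congrArg _ (h ((redEquiv (S := S) I).injective hxy))

theorem isSMulRegular_iff [Module.Flat A M] {I : Ideal A} (hI : I ≠ ⊤) (s : S) :
    IsSMulRegular (M ⧸ (I.map (algebraMap A S) • (⊤ : Submodule S M))) s ↔ IsSMulRegular M s := by
  haveI : Nontrivial (A ⧸ I) := Ideal.Quotient.nontrivial_iff.2 hI
  have hA : IsSMulRegular M s ↔ Function.Injective ((Algebra.lsmul A A M s).rTensor A) := by
    have hnat : ∀ z, TensorProduct.rid A M ((Algebra.lsmul A A M s).rTensor A z) = s • TensorProduct.rid A M z := by
      intro z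
      induction z using TensorProduct.induction_on with
      | zero => simp
      | add a b ha hb => simp only [map_add, ha, hb, smul_add]
      | tmul m a => simp [smul_comm a s m]
    constructor
    · intro h x y hxy
      exact (TensorProduct.rid A M).injective (h (by simp only [← hnat, hxy]))
    · intro h x y hxy
      obtain ⟨x, rfl⟩ := (TensorProduct.rid A M).surjective x
      obtain ⟨y, rfl⟩ := (TensorProduct.rid A M).surjective y
      simp only [← hnat] at hxy
      exact congrArg _ (h ((TensorProduct.rid A M).injective hxy))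
  rw [regular_red_iff, hA]
  exact ⟨fun h => injective_rTensor_of_residue _ (injective_rTensor_residue _ h) _,
    fun h => injective_rTensor_of_residue _ (injective_rTensor_residue _ h) _⟩

theorem flat_quotSMulTop [Module.Flat A M] {s : S} (hs : IsSMulRegular M s) :
    Module.Flat A (QuotSMulTop s M) := by
  let φ : M →ₗ[A] M := Algebra.lsmul A A M s
  let q : M →ₗ[A] QuotSMulTop s M := ((s • (⊤ : Submodule S M)).mkQ).restrictScalars A
  have hq : Function.Surjective q := Submodule.mkQ_surjective (s • (⊤ : Submodule S M))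
  have hex : Function.Exact φ q := by
    intro y
    refine (Submodule.Quotient.mk_eq_zero (s • (⊤ : Submodule S M))).trans ?_
    rw [Submodule.mem_smul_pointwise_iff_exists]
    simp [φ]
  rw [Module.Flat.iff_rTensor_injective']
  intro J
  refine (injective_iff_map_eq_zero _).2 fun z hz => ?_
  obtain ⟨y, rfl⟩ := LinearMap.lTensor_surjective J hq z
  have c1 := LinearMap.congr_fun ((LinearMap.rTensor_comp_lTensor (f := J.subtype) (g := q)).trans
    (LinearMap.lTensor_comp_rTensor (f := J.subtype) (g := q)).symm) y
  simp only [LinearMap.comp_apply] at c1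
  rw [c1] at hz
  obtain ⟨u, hu⟩ := (lTensor_exact A hex hq _).1 hz
  -- the image of `u` modulo `J` is killed by `s`
  have hinj : Function.Injective (φ.lTensor (A ⧸ J)) := by
    have hA : Function.Injective (φ.rTensor A) := by
      intro a b hab
      obtain ⟨a, rfl⟩ := (TensorProduct.rid A M).symm.surjective a
      obtain ⟨b, rfl⟩ := (TensorProduct.rid A M).symm.surjective b
      simp only [TensorProduct.rid_symm_apply, LinearMap.rTensor_tmul] at hab
      exact congrArg _ (hs ((TensorProduct.rid A M).symm.injective hab))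
    exact (LinearMap.lTensor_inj_iff_rTensor_inj _ _).2
      (injective_rTensor_of_residue φ (injective_rTensor_residue φ hA) _)
  let π : A →ₗ[A] A ⧸ J := Submodule.mkQ J
  have hexJ : Function.Exact J.subtype π := LinearMap.exact_iff.2 (by simp [π])
  have h1 : π.rTensor M (φ.lTensor A u) = 0 := by
    rw [hu]
    have e : π.rTensor M ∘ₗ J.subtype.rTensor M = 0 := by
      rw [← LinearMap.rTensor_comp, hexJ.linearMap_comp_eq_zero, LinearMap.rTensor_zero]
    exact LinearMap.congr_fun e y
  have c2 := LinearMap.congr_fun ((LinearMap.rTensor_comp_lTensor (f := π) (g := φ)).trans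
    (LinearMap.lTensor_comp_rTensor (f := π) (g := φ)).symm) u
  simp only [LinearMap.comp_apply] at c2
  rw [c2] at h1
  obtain ⟨y', rfl⟩ := (rTensor_exact M hexJ (Submodule.mkQ_surjective J) _).1 (hinj (h1.trans (map_zero _).symm))
  have c3 := LinearMap.congr_fun ((LinearMap.rTensor_comp_lTensor (f := J.subtype) (g := φ)).trans
    (LinearMap.lTensor_comp_rTensor (f := J.subtype) (g := φ)).symm) y'
  simp only [LinearMap.comp_apply] at c3
  rw [← c3] at hu
  rw [← Module.Flat.rTensor_preserves_injective_linearMap (M := M) J.subtype Subtype.val_injective hu]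
  have e : q.lTensor J ∘ₗ φ.lTensor J = 0 := by
    rw [← LinearMap.lTensor_comp, hex.linearMap_comp_eq_zero, LinearMap.lTensor_zero]
  exact LinearMap.congr_fun e y'

omit [IsArtinianRing A] [IsLocalRing A] [Module A M] [Algebra A S] [IsScalarTower A S M] in
/-- Killing `s` and reducing modulo `J` commute. -/
noncomputable def swapEquiv (J : Ideal S) (s : S) :
    QuotSMulTop s (M ⧸ (J • (⊤ : Submodule S M))) ≃ₗ[S]
      QuotSMulTop s M ⧸ (J • (⊤ : Submodule S (QuotSMulTop s M))) :=
  (Submodule.quotEquivOfEq _ _ (show (s • (⊤ : Submodule S (M ⧸ (J • (⊤ : Submodule S M))))) =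
      (s • (⊤ : Submodule S M)).map (J • (⊤ : Submodule S M)).mkQ by
    rw [Submodule.map_pointwise_smul, Submodule.map_top, Submodule.range_mkQ])).trans <|
  (Submodule.quotientQuotientEquivQuotientSup _ _).trans <|
  (Submodule.quotEquivOfEq _ _ (sup_comm _ _)).trans <|
  (Submodule.quotientQuotientEquivQuotientSup _ _).symm.trans <|
  Submodule.quotEquivOfEq _ _ (by rw [Submodule.map_smul'', Submodule.map_top, Submodule.range_mkQ])

theorem isWeaklyRegular_iff [Module.Flat A M] {I : Ideal A} (hI : I ≠ ⊤) (rs : List S) :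
    RingTheory.Sequence.IsWeaklyRegular (M ⧸ (I.map (algebraMap A S) • (⊤ : Submodule S M))) rs ↔
      RingTheory.Sequence.IsWeaklyRegular M rs := by
  induction rs generalizing M with
  | nil => simp
  | cons r rs ih =>
    rw [RingTheory.Sequence.isWeaklyRegular_cons_iff, RingTheory.Sequence.isWeaklyRegular_cons_iff,
      isSMulRegular_iff hI, (swapEquiv _ r).isWeaklyRegular_congr rs]
    refine and_congr_right fun hr => ?_
    haveI := flat_quotSMulTop (A := A) hr
    exact ih

theorem flat_of_isWeaklyRegular [Module.Flat A M] (rs : List S)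
    (h : RingTheory.Sequence.IsWeaklyRegular M rs) :
    Module.Flat A (M ⧸ (Ideal.ofList rs • (⊤ : Submodule S M))) := by
  induction rs generalizing M with
  | nil =>
    exact Module.Flat.of_linearEquiv
      ((Submodule.quotEquivOfEqBot _ (by simp [Ideal.ofList])).restrictScalars A)
  | cons r rs ih =>
    rw [RingTheory.Sequence.isWeaklyRegular_cons_iff] at h
    haveI := flat_quotSMulTop (A := A) h.1
    haveI := ih h.2
    exact Module.Flat.of_linearEquiv
      ((Submodule.quotOfListConsSMulTopEquivQuotSMulTopInner M r rs).restrictScalars A)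

/-- Weak regularity on a quotient ring. -/
theorem isWeaklyRegular_quot {R : Type*} [CommRing R] {T : Type*} [CommRing T] (π : R →+* T)
    (hπ : Function.Surjective π) {J : Ideal R} (hJ : RingHom.ker π = J) (rs : List R) :
    RingTheory.Sequence.IsWeaklyRegular (R ⧸ (J • (⊤ : Submodule R R))) rs ↔
      RingTheory.Sequence.IsWeaklyRegular T (rs.map π) := by
  let e₀ : (R ⧸ (J • (⊤ : Submodule R R))) ≃ₗ[R] R ⧸ J :=
    Submodule.quotEquivOfEq _ _ (by rw [smul_eq_mul, Ideal.mul_top])
  let e : (R ⧸ (J • (⊤ : Submodule R R))) ≃+ T :=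
    e₀.toAddEquiv.trans (((Ideal.quotEquivOfEq hJ.symm).trans
      (RingHom.quotientKerEquivOfSurjective hπ)).toAddEquiv)
  refine AddEquiv.isWeaklyRegular_congr (e := e) (List.forall₂_map_right_iff.mpr
    (List.forall₂_same.mpr fun r _ x => ?_))
  obtain ⟨y, rfl⟩ := Submodule.Quotient.mk_surjective _ x
  show π (r * y) = π r * π y
  exact map_mul π r y

theorem span_ne_top_iff {R : Type*} [CommRing R] {T : Type*} [CommRing T] (π : R →+* T)
    (hπ : Function.Surjective π) (hnil : IsNilpotent (RingHom.ker π)) (K : Ideal R) :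
    K.map π = ⊤ ↔ K = ⊤ := by
  refine ⟨fun h => ?_, fun h => by rw [h, Ideal.map_top]⟩
  have h1 : (1 : T) ∈ K.map π := by rw [h]; trivial
  obtain ⟨k, hk, hk1⟩ := (Ideal.mem_map_iff_of_surjective π hπ).1 h1
  obtain ⟨n, hn⟩ := hnil
  have hmem : 1 - k ∈ RingHom.ker π := by rw [RingHom.mem_ker, map_sub, map_one, hk1, sub_self]
  have hu : IsNilpotent (1 - k) := ⟨n, by
    have := Ideal.pow_mem_pow hmem n
    rwa [hn, Ideal.zero_eq_bot, Ideal.mem_bot] at this⟩
  have := IsNilpotent.isUnit_one_sub hu
  rw [sub_sub_cancel] at this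
  exact Ideal.eq_top_of_isUnit_mem _ hk this

omit [Module A M] [Module S M] in
theorem isNilpotent_map {I : Ideal A} (hI : I ≠ ⊤) : IsNilpotent (I.map (algebraMap A S)) := by
  obtain ⟨n, hn⟩ : IsNilpotent (maximalIdeal A) := by
    rw [← IsLocalRing.jacobson_eq_maximalIdeal (⊥ : Ideal A) bot_ne_top]; exact IsArtinianRing.isNilpotent_jacobson_bot
  refine ⟨n, ?_⟩
  have h : I ^ n ≤ ⊥ := (Ideal.pow_right_mono (IsLocalRing.le_maximalIdeal hI) n).trans (le_of_eq (by rw [hn]; rfl))
  rw [← Ideal.map_pow, le_bot_iff.1 h, Ideal.map_bot]; rfl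

end Groth.Agent.CAlg7.ArtinFlat
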