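import Mathlib.RingTheory.AdicCompletion.Noetherian
import Mathlib.RingTheory.AdicCompletion.Basic
import Mathlib.RingTheory.Artinian.Module
import Mathlib.RingTheory.HopkinsLevitzki
import Mathlib.RingTheory.LocalRing.ResidueField.Basic

/-!
Chevalley's lemma for a complete Noetherian local ring.
-/

set_option autoImplicit false
set_option linter.style.haveILetI false

universe u

namespace Groth.Agent.CAlg7

theorem isArtinian_quot_pow {R : Type u} [CommRing R] [IsNoetherianRing R] [IsLocalRing R] (M : ℕ) :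
    IsArtinianRing (R ⧸ IsLocalRing.maximalIdeal R ^ M) := by
  haveI : IsNoetherianRing (R ⧸ IsLocalRing.maximalIdeal R ^ M) :=
    isNoetherianRing_of_surjective _ _ (Ideal.Quotient.mk _) Ideal.Quotient.mk_surjective
  rw [isArtinianRing_iff_krullDimLE_zero]
  refine Ring.krullDimLE_zero_iff.mpr fun p hp => ?_
  haveI := hp
  have h : IsLocalRing.maximalIdeal R ≤ p.comap (Ideal.Quotient.mk _) := by
    refine Ideal.IsPrime.le_of_pow_le (n := M) ?_
    intro x hx
    rw [Ideal.mem_comap, Ideal.Quotient.eq_zero_iff_mem.mpr hx]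
    exact zero_mem p
  haveI := (IsLocalRing.maximalIdeal.isMaximal R)
  have hmax : (p.comap (Ideal.Quotient.mk (IsLocalRing.maximalIdeal R ^ M))).IsMaximal := by
    rw [← (IsLocalRing.maximalIdeal.isMaximal R).eq_of_le (Ideal.IsPrime.ne_top inferInstance) h]
    infer_instance
  rw [← Ideal.map_comap_of_surjective _ Ideal.Quotient.mk_surjective p]
  exact (Ideal.map_eq_top_or_isMaximal_of_surjective _ Ideal.Quotient.mk_surjective hmax).resolve_left
    (by rw [Ideal.map_comap_of_surjective _ Ideal.Quotient.mk_surjective p]; exact hp.ne_top)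

/-- Chevalley's lemma. -/
theorem exists_le_sup_pow {R : Type u} [CommRing R] [IsNoetherianRing R] [IsLocalRing R]
    [IsAdicComplete (IsLocalRing.maximalIdeal R) R] (J : ℕ → Ideal R) (hJ : Antitone J) (N : ℕ) :
    ∃ n, J n ≤ (⨅ i, J i) ⊔ IsLocalRing.maximalIdeal R ^ N := by
  set m := IsLocalRing.maximalIdeal R
  have stab : ∀ M, ∃ n, ∀ n', n ≤ n' → (J n ⊔ (m ^ M)) = (J n' ⊔ (m ^ M)) := fun M => by
    haveI : IsArtinianRing (R ⧸ m ^ M) := isArtinian_quot_pow M
    obtain ⟨n, hn⟩ := monotone_stabilizes_iff_artinian.2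
      (inferInstance : IsArtinian (R ⧸ (m ^ M)) (R ⧸ (m ^ M)))
      ⟨fun n => OrderDual.toDual ((J n).map (Ideal.Quotient.mk ((m ^ M)))),
        fun a b hab => Ideal.map_mono (hJ hab)⟩
    refine ⟨n, fun n' hn' => ?_⟩
    have := congrArg (Ideal.comap (Ideal.Quotient.mk ((m ^ M))))
      (OrderDual.toDual.injective (hn n' hn'))
    simpa [Ideal.comap_map_of_surjective _ Ideal.Quotient.mk_surjective, ← RingHom.ker_eq_comap_bot]
      using this
  choose n₀ hn₀ using stab
  let n : ℕ → ℕ := fun M => ∑ i ∈ Finset.range (M + 1), n₀ i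
  have hn₀le : ∀ M, n₀ M ≤ n M := fun M =>
    Finset.single_le_sum (f := n₀) (fun _ _ => Nat.zero_le _) (Finset.self_mem_range_succ M)
  have hmono : ∀ M, n M ≤ n (M + 1) := fun M =>
    Finset.sum_le_sum_of_subset (fun i hi => by simp only [Finset.mem_range] at hi ⊢; omega)
  refine ⟨n N, fun x hx => ?_⟩
  have step : ∀ (M : ℕ) (y : {y : R // y ∈ J (n M) ⊔ (m ^ M)}),
      ∃ z : {y : R // y ∈ J (n (M + 1)) ⊔ (m ^ (M + 1))},
        z.1 - y.1 ∈ (m ^ M) := fun M y => by
    have h1 : y.1 ∈ J (n (M + 1)) ⊔ (m ^ M) := by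
      rw [← hn₀ M (n (M + 1)) ((hn₀le M).trans (hmono M)), hn₀ M (n M) (hn₀le M)]
      exact y.2
    obtain ⟨a, ha, b, hb, hab⟩ := Submodule.mem_sup.1 h1
    exact ⟨⟨a, Submodule.mem_sup_left ha⟩, by
      rw [← hab, sub_add_cancel_left]; exact neg_mem hb⟩
  choose next hnext using step
  let seq : ∀ i, {y : R // y ∈ J (n (N + i)) ⊔ (m ^ (N + i))} :=
    Nat.rec ⟨x, Submodule.mem_sup_left hx⟩ (fun i y => next (N + i) y)
  have hcau : ∀ {a b}, a ≤ b → (seq b).1 - (seq a).1 ∈ (m ^ (N + a)) := by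
    intro a b hab
    induction hab with
    | refl => rw [sub_self]; exact Submodule.zero_mem _
    | @step b hb ih =>
      rw [show (seq (b + 1)).1 - (seq a).1 =
        ((next (N + b) (seq b)).1 - (seq b).1) + ((seq b).1 - (seq a).1) by
          rw [sub_add_sub_cancel]]
      exact Submodule.add_mem _ (Ideal.pow_le_pow_right (Nat.add_le_add_left hb N) (hnext _ (seq b))) ih
  obtain ⟨L, hL⟩ := IsPrecomplete.prec (I := m) inferInstance (f := fun i => (seq i).1)
    (fun {a b} hab => by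
      rw [SModEq.sub_mem, smul_eq_mul, Ideal.mul_top, ← neg_sub]
      exact neg_mem (Ideal.pow_le_pow_right (by omega) (hcau hab)))
  have hLn : ∀ i, (seq i).1 - L ∈ (m ^ (N + i)) := fun i => by
    have h4 := hL (N + i + 1)
    rw [SModEq.sub_mem, smul_eq_mul, Ideal.mul_top] at h4
    rw [show (seq i).1 - L = ((seq (N + i + 1)).1 - L) - ((seq (N + i + 1)).1 - (seq i).1) by ring]
    exact Ideal.sub_mem _ (Ideal.pow_le_pow_right (Nat.le_succ _) h4) (hcau (show i ≤ N + i + 1 by omega))
  have hLmem : ∀ i, L ∈ J i := fun i => by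
    have hcl : ∀ M, L ∈ J i ⊔ (m ^ M) := fun M => by
      set j := M + i with hj
      have h5 : L ∈ J (n (N + j)) ⊔ (m ^ (N + j)) := by
        rw [show L = (seq j).1 - ((seq j).1 - L) by ring]
        exact Ideal.sub_mem _ (seq j).2 (Submodule.mem_sup_right (hLn j))
      have hbig : J (n (N + j)) ⊔ (m ^ M) ≤ J i ⊔ (m ^ M) := by
        rcases le_total i (n (N + j)) with h | h
        · exact sup_le_sup_right (hJ h) _
        · refine le_of_eq ?_
          have e1 := hn₀ (N + j) (n (N + j)) (hn₀le _)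
          have e2 := hn₀ (N + j) i ((hn₀le _).trans h)
          have e3 : J (n (N + j)) ⊔ (m ^ (N + j)) = J i ⊔ (m ^ (N + j)) := e1.symm.trans e2
          have hle : (m ^ (N + j)) ≤ (m ^ M) := Ideal.pow_le_pow_right (by omega)
          calc J (n (N + j)) ⊔ (m ^ M)
              = (J (n (N + j)) ⊔ (m ^ (N + j))) ⊔ (m ^ M) := by
                rw [sup_assoc, sup_eq_right.2 hle]
            _ = _ := by rw [e3, sup_assoc, sup_eq_right.2 hle]
      have hle' : (m ^ (N + j)) ≤ (m ^ M) :=
        Ideal.pow_le_pow_right (show M ≤ N + j by omega)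
      exact hbig ((sup_le_sup_left hle' (J (n (N + j)))) h5)
    rw [← Ideal.Quotient.eq_zero_iff_mem]
    refine IsHausdorff.haus (I := m) inferInstance _ fun M => ?_
    rw [SModEq.zero, Ideal.smul_top_eq_map, Submodule.restrictScalars_mem]
    obtain ⟨a, ha, b, hb, hab⟩ := Submodule.mem_sup.1 (hcl M)
    rw [← hab, map_add, Ideal.Quotient.eq_zero_iff_mem.2 ha, zero_add]
    exact Ideal.mem_map_of_mem _ hb
  refine Submodule.mem_sup.2 ⟨L, Submodule.mem_iInf _ |>.2 hLmem, x - L, ?_, by ring⟩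
  exact hLn 0

/-- Chevalley's lemma, separated form. -/
theorem exists_le_pow {R : Type u} [CommRing R] [IsNoetherianRing R] [IsLocalRing R]
    [IsAdicComplete (IsLocalRing.maximalIdeal R) R] (J : ℕ → Ideal R) (hJ : Antitone J) (h : ⨅ i, J i = ⊥) (N : ℕ) :
    ∃ n, J n ≤ IsLocalRing.maximalIdeal R ^ N := by
  obtain ⟨n, hn⟩ := exists_le_sup_pow J hJ N
  exact ⟨n, by simpa [h] using hn⟩

end Groth.Agent.CAlg7
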