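import Groth.Agent.CAlg1.AssTensor
import Groth.Agent.S0568
import Groth.Agent.S10957
import Mathlib.RingTheory.Ideal.AssociatedPrime.Localization
import Mathlib.RingTheory.Ideal.GoingUp
import Mathlib.RingTheory.Ideal.KrullsHeightTheorem
import Mathlib.RingTheory.Nakayama
import Mathlib.RingTheory.IntegralClosure.IntegrallyClosed
import Mathlib.RingTheory.IsTensorProduct

/-!
Associated primes of the fibres of a flat algebra over a complete Noetherian local ring.
-/

set_option autoImplicit false
set_option linter.style.haveILetI false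

universe u

open TensorProduct

namespace Groth.Agent.CAlg7

/-- If `Q` is associated to `M` and `t` is `M`-regular, a minimal prime over `Q + (t)` is associated to `M/tM`. -/
theorem mem_associatedPrimes_quotSMulTop {R : Type u} [CommRing R] [IsNoetherianRing R] {M : Type u}
    [AddCommGroup M] [Module R M] [Module.Finite R M] {Q : Ideal R} (hQ : Q ∈ associatedPrimes R M) {t : R}
    (ht : IsSMulRegular M t) {P : Ideal R} (hP : P ∈ (Q ⊔ Ideal.span {t}).minimalPrimes) :
    P ∈ associatedPrimes R (M ⧸ Ideal.span {t} • (⊤ : Submodule R M)) := by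
  classical
  obtain ⟨-, y, hy⟩ := isAssociatedPrime_iff.1 hQ
  haveI hPp : P.IsPrime := hP.1.1
  have hQP : Q ≤ P := le_sup_left.trans hP.1.2
  have htP : t ∈ P := hP.1.2 (Ideal.mem_sup_right (Ideal.mem_span_singleton_self t))
  let N : Submodule R M := Submodule.torsionBySet R M (Q : Set R)
  have hNmem : ∀ v : M, v ∈ N ↔ ∀ q ∈ Q, q • v = 0 := fun v => by
    simp [N, Submodule.mem_torsionBySet_iff]
  have hyN : y ∈ N := (hNmem y).2 fun q hq => by
    rw [hy, Submodule.mem_colon_singleton, Submodule.mem_bot] at hq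
    exact hq
  let MT := M ⧸ Ideal.span {t} • (⊤ : Submodule R M)
  let π : M →ₗ[R] MT := Submodule.mkQ _
  obtain ⟨n, hn, hnP⟩ : ∃ n ∈ N, LinearMap.ker (LinearMap.toSpanSingleton R MT (π n)) ≤ P := by
    by_contra hc
    push Not at hc
    obtain ⟨T, hT⟩ := (IsNoetherian.noetherian N : N.FG)
    have hs : ∀ n ∈ T, ∃ s ∉ P, ∃ m ∈ N, s • n = t • m := fun n hn => by
      have hnN : n ∈ N := hT ▸ Submodule.subset_span hn
      obtain ⟨s, hs, hsP⟩ := SetLike.not_le_iff_exists.1 (hc n hnN)
      refine ⟨s, hsP, ?_⟩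
      have h0 : π (s • n) = 0 := by rw [map_smul]; exact hs
      rw [Submodule.mkQ_apply, Submodule.Quotient.mk_eq_zero, Submodule.ideal_span_singleton_smul,
        Submodule.mem_smul_pointwise_iff_exists] at h0
      obtain ⟨m, -, hm⟩ := h0
      refine ⟨m, (hNmem m).2 fun q hq => ht ?_, hm.symm⟩
      show t • q • m = t • (0 : M)
      rw [smul_comm, hm, smul_comm, (hNmem n).1 hnN q hq, smul_zero, smul_zero]
    choose s hsP m hmN hsm using hs
    let S := ∏ n ∈ T.attach, s n.1 n.2
    have hSP : S ∉ P := fun h => by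
      obtain ⟨n, -, hn⟩ := (hPp.prod_mem_iff).1 h
      exact hsP n.1 n.2 hn
    haveI : Module.Finite R N := Module.Finite.iff_fg.2 (IsNoetherian.noetherian N)
    let e : Module.End R N := LinearMap.lsmul R N S
    have hrange : LinearMap.range e ≤ Ideal.span {t} • (⊤ : Submodule R N) := by
      have key : N ≤ Submodule.comap (S • LinearMap.id : M →ₗ[R] M) (Submodule.map (t • LinearMap.id : M →ₗ[R] M) N) := by
        conv_lhs => rw [← hT]
        refine Submodule.span_le.2 fun n hn => ?_
        obtain ⟨c, hc⟩ : s n hn ∣ S := Finset.dvd_prod_of_mem (f := fun x : T => s x.1 x.2) (Finset.mem_attach T ⟨n, hn⟩)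
        refine ⟨c • m n hn, N.smul_mem c (hmN n hn), ?_⟩
        show t • c • m n hn = S • n
        rw [smul_comm, ← hsm n hn, ← mul_smul, hc, mul_comm]
      rintro _ ⟨v, rfl⟩
      obtain ⟨w, hw, hwv⟩ := key v.2
      have : e v = t • (⟨w, hw⟩ : N) := Subtype.ext (by
        show S • (v : M) = t • w
        exact hwv.symm)
      rw [this]
      exact Submodule.smul_mem_smul (Ideal.mem_span_singleton_self t) Submodule.mem_top
    obtain ⟨p, hpm, -, hpc, hpe⟩ :=
      LinearMap.exists_monic_and_natDegree_eq_and_coeff_mem_pow_and_aeval_eq_zero (M := N) R e (Ideal.span {t}) hrange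
    have h1 : ∀ (k : ℕ) (v : N), (e ^ k) v = S ^ k • v := fun k => by
      induction k with
      | zero => intro v; simp
      | succ k ih =>
        intro v
        rw [pow_succ', Module.End.mul_apply, ih, pow_succ', mul_smul]
        rfl
    have h2 : (p.eval S) • (⟨y, hyN⟩ : N) = 0 := by
      have := LinearMap.congr_fun hpe (⟨y, hyN⟩ : N)
      rw [Polynomial.aeval_eq_sum_range, LinearMap.sum_apply] at this
      rw [Polynomial.eval_eq_sum_range, Finset.sum_smul]
      simpa [h1, mul_smul] using this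
    have h3 : p.eval S ∈ Q := by
      rw [hy, Submodule.mem_colon_singleton, Submodule.mem_bot]
      exact congrArg Subtype.val h2
    have h4 : S ^ p.natDegree ∈ P := by
      have h5 := hQP h3
      rw [Polynomial.eval_eq_sum_range, Finset.sum_range_succ, hpm.coeff_natDegree, one_mul] at h5
      refine (Ideal.add_mem_iff_right _ (sum_mem fun i hi => P.mul_mem_right _ ?_)).1 h5
      have hlt : i < p.natDegree := Finset.mem_range.1 hi
      exact ((Ideal.span_singleton_le_iff_mem _).2 htP)
        (Ideal.pow_le_self (Nat.sub_ne_zero_of_lt hlt) (hpc i))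
    exact hSP (hPp.mem_of_pow_mem _ h4)
  let D := LinearMap.range (LinearMap.toSpanSingleton R MT (π n))
  refine associatedPrimes.subset_of_injective D.injective_subtype
    (Module.associatedPrimes.minimalPrimes_annihilator_subset_associatedPrimes R D ?_)
  have hann : Module.annihilator R D = LinearMap.ker (LinearMap.toSpanSingleton R MT (π n)) := by
    ext r
    rw [Module.mem_annihilator]
    constructor
    · intro h
      have := congrArg Subtype.val (h ⟨π n, 1, one_smul _ _⟩)
      exact this
    · rintro h ⟨_, c, rfl⟩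
      refine Subtype.ext ?_
      show r • c • π n = 0
      rw [smul_comm, show r • π n = 0 from h, smul_zero]
  rw [hann]
  refine ⟨⟨hPp, hnP⟩, fun P' ⟨hP', hle⟩ hP'P => ?_⟩
  refine hP.2 ⟨hP', sup_le (fun q hq => hle ?_) ((Ideal.span_singleton_le_iff_mem _).2 (hle ?_))⟩ hP'P
  · show q • π n = 0
    rw [← map_smul, (hNmem n).1 hn q hq, map_zero]
  · show t • π n = 0
    rw [← map_smul, Submodule.mkQ_apply, Submodule.Quotient.mk_eq_zero]
    exact Submodule.smul_mem_smul (Ideal.mem_span_singleton_self t) Submodule.mem_top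

/-- A minimal prime over the annihilator of an element is associated. -/
theorem mem_associatedPrimes_of_minimal_colon {R : Type u} [CommRing R] [IsNoetherianRing R] {M : Type u}
    [AddCommGroup M] [Module R M] (y : M) {P : Ideal R}
    (hP : P ∈ Ideal.minimalPrimes (LinearMap.ker (LinearMap.toSpanSingleton R M y) : Ideal R)) :
    P ∈ associatedPrimes R M := by
  let D := LinearMap.range (LinearMap.toSpanSingleton R M y)
  refine associatedPrimes.subset_of_injective D.injective_subtype
    (Module.associatedPrimes.minimalPrimes_annihilator_subset_associatedPrimes R D ?_)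
  have hann : Module.annihilator R D = LinearMap.ker (LinearMap.toSpanSingleton R M y) := by
    ext r
    rw [Module.mem_annihilator]
    constructor
    · intro h
      have := congrArg Subtype.val (h ⟨y, 1, one_smul _ _⟩)
      exact this
    · rintro h ⟨_, c, rfl⟩
      refine Subtype.ext ?_
      show r • c • y = 0
      rw [smul_comm, show r • y = 0 from h, smul_zero]
  rwa [hann]

/-- Associated primes of `B/qB` lie over the prime `q` for flat `B`. -/
theorem comap_eq_of_mem_associatedPrimes {A : Type u} [CommRing A] {B : Type u} [CommRing B] [IsNoetherianRing B]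
    [Algebra A B] [Module.Flat A B] (q : Ideal A) [q.IsPrime] {Q : Ideal B}
    (hQ : Q ∈ associatedPrimes B (B ⧸ q.map (algebraMap A B))) : Q.comap (algebraMap A B) = q := by
  obtain ⟨-, y, hy⟩ := isAssociatedPrime_iff.1 hQ
  obtain ⟨y, rfl⟩ := Ideal.Quotient.mk_surjective y
  have hmem : ∀ b : B, b ∈ Q ↔ b * y ∈ q.map (algebraMap A B) := fun b => by
    rw [hy, Submodule.mem_colon_singleton, Submodule.mem_bot]
    exact Ideal.Quotient.eq_zero_iff_mem (a := b * y)
  refine le_antisymm (fun a ha => ?_) fun a ha => (hmem _).2 (Ideal.mul_mem_right _ _ (Ideal.mem_map_of_mem _ ha))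
  by_contra haq
  have hinj : Function.Injective (LinearMap.lsmul A (A ⧸ q) a) := by
    rw [injective_iff_map_eq_zero]
    intro c hc
    obtain ⟨c, rfl⟩ := Ideal.Quotient.mk_surjective c
    rw [LinearMap.lsmul_apply, Algebra.smul_def, Ideal.Quotient.algebraMap_eq, ← map_mul,
      Ideal.Quotient.eq_zero_iff_mem] at hc
    exact Ideal.Quotient.eq_zero_iff_mem.2 ((Ideal.IsPrime.mem_or_mem ‹_› hc).resolve_left haq)
  have h2 := Module.Flat.lTensor_preserves_injective_linearMap (M := B) _ hinj
  let e := (Algebra.TensorProduct.quotIdealMapEquivTensorQuot B q).toLinearEquiv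
  have h3 : a • (Ideal.Quotient.mk (q.map (algebraMap A B)) y) = 0 := by
    rw [Algebra.smul_def, IsScalarTower.algebraMap_apply A B (B ⧸ q.map (algebraMap A B)),
      Ideal.Quotient.algebraMap_eq, ← map_mul, Ideal.Quotient.eq_zero_iff_mem]
    exact (hmem _).1 ha
  have h4 : (e (Ideal.Quotient.mk _ y)) = 0 := h2 (by
    rw [map_zero]
    have h5 : ∀ z : B ⊗[A] (A ⧸ q), (LinearMap.lsmul A (A ⧸ q) a).lTensor B z = a • z := fun z => by
      induction z using TensorProduct.induction_on with
      | zero => simp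
      | add u v hu hv => rw [map_add, hu, hv, smul_add]
      | tmul b c => simp
    rw [h5, ← IsScalarTower.algebraMap_smul B a, ← map_smul, IsScalarTower.algebraMap_smul, h3, map_zero])
  rw [LinearEquiv.map_eq_zero_iff, Ideal.Quotient.eq_zero_iff_mem] at h4
  exact hQ.isPrime.ne_top ((Ideal.eq_top_iff_one _).2 ((hmem 1).2 (by rwa [one_mul])))

/-- In a normal Noetherian domain the primes associated to a principal ideal have height one. -/
theorem height_le_one_of_mem_associatedPrimes {A : Type u} [CommRing A] [IsDomain A] [IsNoetherianRing A]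
    [IsIntegrallyClosed A] {a : A} (ha : a ≠ 0) {p : Ideal A}
    (hp : p ∈ associatedPrimes A (A ⧸ Ideal.span {a})) : p.height ≤ 1 := by
  haveI := hp.isPrime
  obtain ⟨-, y, hy⟩ := isAssociatedPrime_iff.1 hp
  obtain ⟨y, rfl⟩ := Ideal.Quotient.mk_surjective y
  have hmem : ∀ b : A, b ∈ p ↔ b * y ∈ Ideal.span {a} := fun b => by
    rw [hy, Submodule.mem_colon_singleton, Submodule.mem_bot]
    exact Ideal.Quotient.eq_zero_iff_mem (a := b * y)
  let L := Localization.AtPrime p
  have hass : IsLocalRing.maximalIdeal L ∈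
      associatedPrimes L (L ⧸ Ideal.span ({algebraMap A L a} : Set L)) := by
    refine isAssociatedPrime_iff.2 ⟨inferInstance, Ideal.Quotient.mk _ (algebraMap A L y), ?_⟩
    ext z
    obtain ⟨b, s, rfl⟩ := IsLocalization.exists_mk'_eq p.primeCompl z
    rw [IsLocalization.AtPrime.mk'_mem_maximal_iff L p, Submodule.mem_colon_singleton, Submodule.mem_bot]
    change _ ↔ Ideal.Quotient.mk (Ideal.span {algebraMap A L a}) (IsLocalization.mk' L b s * algebraMap A L y) = 0
    rw [Ideal.Quotient.eq_zero_iff_mem,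
      ← IsLocalization.mk'_one (M := p.primeCompl) L y, ← IsLocalization.mk'_mul, mul_one, IsLocalization.mk'_mem_iff,
      ← Set.image_singleton, ← Ideal.map_span,
      IsLocalization.algebraMap_mem_map_algebraMap_iff p.primeCompl]
    constructor
    · exact fun hb => ⟨1, one_mem _, by rw [one_mul]; exact (hmem b).1 hb⟩
    · rintro ⟨s, hs, h⟩
      rw [← mul_assoc] at h
      exact (Ideal.IsPrime.mem_or_mem ‹_› ((hmem _).2 h)).resolve_left hs
  haveI : IsIntegrallyClosed L := isIntegrallyClosed_of_isLocalization L p.primeCompl p.primeCompl_le_nonZeroDivisors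
  haveI := S10957.result L (algebraMap A L a)
    (by rwa [Ne, IsLocalization.to_map_eq_zero_iff L p.primeCompl_le_nonZeroDivisors]) hass
  rw [← WithBot.coe_le_coe, ← IsLocalization.AtPrime.ringKrullDim_eq_height p L,
    IsDiscreteValuationRing.ringKrullDim_eq_one]
  rfl

/-- A prime associated to a module over an extension contracts to an associated prime. -/
theorem comap_mem_associatedPrimes {R S : Type u} [CommRing R] [CommRing S] [IsNoetherianRing R] [IsNoetherianRing S]
    [Algebra R S] {M N : Type u} [AddCommGroup M] [Module S M] [Module R M] [IsScalarTower R S M]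
    [AddCommGroup N] [Module R N] (e : M →ₗ[R] N) (he : Function.Injective e)
    {P : Ideal S} (hP : P ∈ associatedPrimes S M) : P.comap (algebraMap R S) ∈ associatedPrimes R N := by
  haveI := hP.isPrime
  obtain ⟨-, y, hy⟩ := isAssociatedPrime_iff.1 hP
  refine isAssociatedPrime_iff.2 ⟨inferInstance, e y, ?_⟩
  ext r
  rw [Ideal.mem_comap, hy, Submodule.mem_colon_singleton, Submodule.mem_colon_singleton, Submodule.mem_bot,
    Submodule.mem_bot, IsScalarTower.algebraMap_smul, ← map_smul, map_eq_zero_iff e he]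

theorem ass_quot_smul_top {B : Type u} [CommRing B] (J : Ideal B) :
    associatedPrimes B (B ⧸ J • (⊤ : Submodule B B)) = associatedPrimes B (B ⧸ J) :=
  LinearEquiv.AssociatedPrimes.eq (Submodule.quotEquivOfEq _ _ (by rw [smul_eq_mul, Ideal.mul_top]))

theorem height_comap_le_one {A' B' : Type u} [CommRing A'] [IsDomain A'] [IsNoetherianRing A'] [IsIntegrallyClosed A']
    [CommRing B'] [IsNoetherianRing B'] [Algebra A' B'] [Module.Flat A' B'] (x' : A') (hx' : x' ≠ 0) (t : B')
    (ht : algebraMap A' B' x' = t) {P : Ideal B'}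
    (hP : P ∈ associatedPrimes B' (B' ⧸ Ideal.span {t} • (⊤ : Submodule B' B'))) :
    (P.comap (algebraMap A' B')).height ≤ 1 := by
  subst ht
  have h3 : P ∈ associatedPrimes B' (B' ⊗[A'] (A' ⧸ Ideal.span {x'})) := by
    rw [← LinearEquiv.AssociatedPrimes.eq (CAlg1.tensorQuotEquiv (S := B') (N := B') (Ideal.span {x'})),
      Ideal.map_span, Set.image_singleton]
    exact hP
  rw [CAlg1.associatedPrimes_tensor_of_flat, Set.mem_iUnion₂] at h3
  obtain ⟨q, hq, hPq⟩ := h3
  haveI := hq.isPrime
  rw [ass_quot_smul_top] at hPq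
  rw [comap_eq_of_mem_associatedPrimes q hPq]
  exact height_le_one_of_mem_associatedPrimes hx' hq

theorem mem_ker_lTensor_iff {A B M N P : Type u} [CommRing A] [CommRing B] [Algebra A B] [AddCommGroup M] [Module A M]
    [AddCommGroup N] [Module A N] [AddCommGroup P] [Module A P] (f : M →ₗ[A] N) (g : N →ₗ[A] P)
    (hfg : Function.Exact f g) (hg : Function.Surjective g) (z : B ⊗[A] N) :
    z ∈ LinearMap.ker (AlgebraTensorModule.lTensor B B g) ↔ z ∈ Set.range (f.lTensor B) :=
  lTensor_exact B hfg hg z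

theorem comap_mem_associatedPrimes_tensor_aux {A B A' T : Type u} [CommRing A] [CommRing B] [IsNoetherianRing B]
    [Algebra A B] [CommRing A'] [Algebra A A'] [IsNoetherianRing (B ⊗[A] A')] [AddCommGroup T] [Module A T] (x : A)
    (g : A' →ₗ[A] T) (hfg : Function.Exact (LinearMap.lsmul A A' x) g) (hg : Function.Surjective g)
    {P : Ideal (B ⊗[A] A')}
    (hP : P ∈ associatedPrimes (B ⊗[A] A')
      ((B ⊗[A] A') ⧸ Ideal.span {algebraMap A (B ⊗[A] A') x} • (⊤ : Submodule (B ⊗[A] A') (B ⊗[A] A')))) :
    P.comap (algebraMap B (B ⊗[A] A')) ∈ associatedPrimes B (B ⊗[A] T) := by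
  let φ : B ⊗[A] A' →ₗ[B] B ⊗[A] T := AlgebraTensorModule.lTensor B B g
  let Kx : Submodule B (B ⊗[A] A') :=
    (Ideal.span {algebraMap A (B ⊗[A] A') x} • (⊤ : Submodule (B ⊗[A] A') (B ⊗[A] A'))).restrictScalars B
  have h5 : ∀ w : B ⊗[A] A', (LinearMap.lsmul A A' x).lTensor B w = algebraMap A (B ⊗[A] A') x • w := fun w => by
    rw [IsScalarTower.algebraMap_smul]
    induction w using TensorProduct.induction_on with
    | zero => simp
    | add u v hu hv => rw [map_add, hu, hv, smul_add]
    | tmul b c => simp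
  have hφ : LinearMap.ker φ = Kx := by
    ext z
    refine (mem_ker_lTensor_iff (LinearMap.lsmul A A' x) g hfg hg z).trans ?_
    show z ∈ Set.range _ ↔ z ∈ Ideal.span {algebraMap A (B ⊗[A] A') x} • (⊤ : Submodule (B ⊗[A] A') (B ⊗[A] A'))
    rw [Submodule.ideal_span_singleton_smul, Submodule.mem_smul_pointwise_iff_exists]
    constructor
    · rintro ⟨w, rfl⟩; exact ⟨w, trivial, (h5 w).symm⟩
    · rintro ⟨w, -, rfl⟩; exact ⟨w, h5 w⟩
  have hinj : Function.Injective (Kx.liftQ φ hφ.ge) := by
    rw [← LinearMap.ker_eq_bot, Submodule.ker_liftQ_eq_bot]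
    exact hφ.le
  exact comap_mem_associatedPrimes
    ((Kx.liftQ φ hφ.ge) ∘ₗ (Submodule.Quotient.restrictScalarsEquiv B _).symm.toLinearMap)
    (hinj.comp (LinearEquiv.injective _)) hP

theorem exact_lsmul_mkQ {A A' : Type u} [CommRing A] [CommRing A'] [Algebra A A'] (x : A) :
    Function.Exact (LinearMap.lsmul A A' x) ((Ideal.span {algebraMap A A' x}).mkQ.restrictScalars A) := fun c => by
  constructor
  · intro hc
    obtain ⟨d, hd⟩ := Ideal.mem_span_singleton'.1 ((Submodule.Quotient.mk_eq_zero _).1 hc)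
    exact ⟨d, by rw [LinearMap.lsmul_apply, Algebra.smul_def, mul_comm]; exact hd⟩
  · rintro ⟨d, rfl⟩
    exact (Submodule.Quotient.mk_eq_zero _).2 (Ideal.mem_span_singleton'.2
      ⟨d, by rw [LinearMap.lsmul_apply, Algebra.smul_def, mul_comm]⟩)

set_option maxHeartbeats 800000 in
attribute [local instance] Algebra.TensorProduct.rightAlgebra in
/-- The inductive step, through a normal finite extension of `A ⧸ p` with the same fractions. -/
theorem fibres_noEmbedded_step (A B : Type u) [CommRing A] [CommRing B] [IsNoetherianRing A] [IsLocalRing A]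
    [IsNoetherianRing B] [Algebra A B] [Module.Flat A B]
    (hloc : (IsLocalRing.maximalIdeal A).map (algebraMap A B) ≤ Ideal.jacobson ⊥)
    (p : Ideal A) [hp : p.IsPrime]
    (A' : Type u) [CommRing A'] [IsDomain A'] [IsNoetherianRing A'] [IsIntegrallyClosed A'] [Algebra A A']
    [Module.Finite A A'] (ι : (A ⧸ p) →ₗ[A] A') (hι : Function.Injective ι) (hι1 : ι 1 = 1)
    (hsurj : ∀ c : A', ∃ s ∉ p, ∃ r : A, s • c = algebraMap A A' r)
    (x : A) (hxm : x ∈ IsLocalRing.maximalIdeal A) (hxp : x ∉ p)
    (ih : ∀ p1 : Ideal A, p < p1 → p1.IsPrime → ∀ Q ∈ associatedPrimes B (B ⧸ p1.map (algebraMap A B)),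
      Q ∈ (p1.map (algebraMap A B)).minimalPrimes ∧
        ∀ P ∈ (Q ⊔ (IsLocalRing.maximalIdeal A).map (algebraMap A B)).minimalPrimes,
          P ∈ ((IsLocalRing.maximalIdeal A).map (algebraMap A B)).minimalPrimes)
    (Q : Ideal B) (hQ : Q ∈ associatedPrimes B (B ⧸ p.map (algebraMap A B))) :
    Q ∈ (p.map (algebraMap A B)).minimalPrimes ∧
      ∀ P ∈ (Q ⊔ (IsLocalRing.maximalIdeal A).map (algebraMap A B)).minimalPrimes,
        P ∈ ((IsLocalRing.maximalIdeal A).map (algebraMap A B)).minimalPrimes := by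
  classical
  let f := algebraMap A B
  haveI hQp := hQ.isPrime
  have hQA : Q.comap f = p := comap_eq_of_mem_associatedPrimes p hQ
  have hpQ : p.map f ≤ Q := Ideal.map_le_iff_le_comap.2 hQA.ge
  have hmk : ∀ a : A, algebraMap A A' a = ι (Ideal.Quotient.mk p a) := fun a => by
    rw [show Ideal.Quotient.mk p a = a • (1 : A ⧸ p) by rw [Algebra.smul_def, mul_one]; rfl, map_smul, hι1,
      Algebra.smul_def, mul_one]
  have hA'x : algebraMap A A' x ≠ 0 := fun h => hxp (Ideal.Quotient.eq_zero_iff_mem.1 (hι (by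
    rw [map_zero, ← hmk, h])))
  -- the base change
  let B' := B ⊗[A] A'
  haveI : IsNoetherianRing B' := Algebra.FiniteType.isNoetherianRing B B'
  haveI : Algebra.IsIntegral B B' := Algebra.IsIntegral.of_finite B B'
  haveI : Module.Flat A' B' := Module.Flat.isBaseChange A A' B B'
    (Algebra.IsPushout.symm (R := A) (S := B) (R' := A') (S' := B') inferInstance).out
  have hrange : ∀ z : B', ∃ a ∉ p, ∃ b : B, a • z = algebraMap B B' b := by
    intro z
    induction z using TensorProduct.induction_on with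
    | zero => exact ⟨1, fun h => hp.ne_top ((Ideal.eq_top_iff_one p).2 h), 0, by simp⟩
    | add u v hu hv =>
      obtain ⟨a, ha, b, hab⟩ := hu
      obtain ⟨a', ha', b', hab'⟩ := hv
      refine ⟨a * a', fun h => (hp.mem_or_mem h).elim ha ha', a' • b + a • b', ?_⟩
      have hl : ∀ (c : A) (d : B), algebraMap B B' (c • d) = c • algebraMap B B' d := fun c d => by
        rw [Algebra.smul_def, map_mul, ← IsScalarTower.algebraMap_apply, ← Algebra.smul_def]
      rw [smul_add, map_add, hl, hl, ← hab, ← hab', ← mul_smul, ← mul_smul, mul_comm a' a]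
    | tmul b c =>
      obtain ⟨s, hs, r, hc⟩ := hsurj c
      refine ⟨s, hs, r • b, ?_⟩
      show s • (b ⊗ₜ[A] c) = (r • b) ⊗ₜ[A] (1 : A')
      rw [← TensorProduct.tmul_smul, hc, TensorProduct.smul_tmul, Algebra.smul_def, mul_one]
  have hker : ∀ b : B, algebraMap B B' b = 0 ↔ b ∈ p.map f := fun b => by
    have h2 := Module.Flat.lTensor_preserves_injective_linearMap (M := B) ι hι
    let e := (Algebra.TensorProduct.quotIdealMapEquivTensorQuot B p).toLinearEquiv
    have h3 : algebraMap B B' b = ι.lTensor B (e (Ideal.Quotient.mk _ b)) := by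
      show b ⊗ₜ[A] (1 : A') = _
      rw [show e (Ideal.Quotient.mk _ b) = b ⊗ₜ[A] (1 : A ⧸ p) from rfl]
      simp [hι1]
    rw [h3, map_eq_zero_iff _ h2, LinearEquiv.map_eq_zero_iff, Ideal.Quotient.eq_zero_iff_mem]
  have hxreg : IsSMulRegular B' (algebraMap A B' x) := by
    have hinj : Function.Injective (LinearMap.lsmul A A' x) := fun a b h => by
      simp only [LinearMap.lsmul_apply, Algebra.smul_def] at h
      exact mul_left_cancel₀ hA'x h
    have h2 := Module.Flat.lTensor_preserves_injective_linearMap (M := B) _ hinj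
    have h5 : ∀ z : B', (LinearMap.lsmul A A' x).lTensor B z = algebraMap A B' x • z := fun z => by
      rw [IsScalarTower.algebraMap_smul]
      induction z using TensorProduct.induction_on with
      | zero => simp
      | add u v hu hv => rw [map_add, hu, hv, smul_add]
      | tmul b c => simp
    intro u v huv
    exact h2 (by rw [h5, h5]; exact huv)
  -- a prime above `Q`
  obtain ⟨-, y, hy⟩ := isAssociatedPrime_iff.1 hQ
  obtain ⟨y, rfl⟩ := Ideal.Quotient.mk_surjective y
  have hmem : ∀ b : B, b ∈ Q ↔ b * y ∈ p.map f := fun b => by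
    rw [hy, Submodule.mem_colon_singleton, Submodule.mem_bot]
    exact Ideal.Quotient.eq_zero_iff_mem (a := b * y)
  let J : Ideal B' := LinearMap.ker (LinearMap.toSpanSingleton B' B' (algebraMap B B' y))
  have hJ : J.comap (algebraMap B B') = Q := by
    ext b
    rw [hmem b, ← hker, map_mul, Ideal.mem_comap]
    rfl
  obtain ⟨Q', hJQ', hQ'p, hQ'⟩ := Ideal.exists_ideal_over_prime_of_isIntegral Q J hJ.le
  have hQ'ass : Q' ∈ associatedPrimes B' B' := by
    refine mem_associatedPrimes_of_minimal_colon (algebraMap B B' y) ⟨⟨hQ'p, hJQ'⟩, fun R ⟨hR, hJR⟩ hRQ => ?_⟩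
    by_contra hne
    haveI := hR
    have h1 := Ideal.IsIntegral.comap_lt_comap (R := B) (lt_of_le_not_ge hRQ hne)
    refine h1.not_ge ?_
    rw [hQ', ← hJ]
    exact Ideal.comap_mono hJR
  have htower : ∀ a : A, algebraMap A B' a = algebraMap B B' (f a) := fun a =>
    IsScalarTower.algebraMap_apply A B B' a
  have hxQ' : algebraMap A B' x ∉ Q' := fun h => by
    have h2 : algebraMap A B' x ∈ ⋃ P ∈ associatedPrimes B' B', (P : Set B') := Set.mem_biUnion hQ'ass h
    rw [biUnion_associatedPrimes_eq_compl_regular] at h2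
    exact h2 hxreg
  have key : ∀ P ∈ (Q ⊔ (IsLocalRing.maximalIdeal A).map f).minimalPrimes,
      P ∈ ((IsLocalRing.maximalIdeal A).map f).minimalPrimes ∧ Q'.height = 0 := by
    intro P hP
    haveI := hP.1.1
    haveI := hQ'p
    obtain ⟨P', hQ'P', hP'p, hP'⟩ := Ideal.exists_ideal_over_prime_of_isIntegral P Q'
      (hQ'.le.trans (le_sup_left.trans hP.1.2))
    haveI := hP'p
    have hxP : f x ∈ P := hP.1.2 (Ideal.mem_sup_right (Ideal.mem_map_of_mem f hxm))
    obtain ⟨P1', hP1', hP1'P'⟩ := Ideal.exists_minimalPrimes_le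
      (I := Q' ⊔ Ideal.span {algebraMap A B' x}) (J := P') (sup_le hQ'P'
        ((Ideal.span_singleton_le_iff_mem _).2 (by
          rw [htower, ← Ideal.mem_comap, hP']; exact hxP)))
    haveI := hP1'.1.1
    let P1 := P1'.comap (algebraMap B B')
    have hass1 := mem_associatedPrimes_quotSMulTop hQ'ass hxreg hP1'
    let x' := algebraMap A A' x
    have hht : (P1'.comap (algebraMap A' B')).height ≤ 1 :=
      height_comap_le_one x' hA'x (algebraMap A B' x) (IsScalarTower.algebraMap_apply A A' B' x).symm hass1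
    have h4 : P1 ∈ associatedPrimes B (B ⊗[A] (A' ⧸ Ideal.span {x'})) := by
      refine comap_mem_associatedPrimes_tensor_aux (B := B) (A' := A') (T := A' ⧸ Ideal.span {algebraMap A A' x}) x
        ((Ideal.span {algebraMap A A' x}).mkQ.restrictScalars A) (exact_lsmul_mkQ x) (fun y => Submodule.mkQ_surjective _ y)
        (P := P1') ?_
      exact hass1
    rw [CAlg1.associatedPrimes_tensor_of_flat, Set.mem_iUnion₂] at h4
    obtain ⟨p1, hp1, hP1p1⟩ := h4
    haveI := hp1.isPrime
    rw [ass_quot_smul_top] at hP1p1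
    have hP1A := comap_eq_of_mem_associatedPrimes p1 hP1p1
    have hQP1 : Q ≤ P1 := hQ'.ge.trans (Ideal.comap_mono (le_sup_left.trans hP1'.1.2))
    have hxP1 : f x ∈ P1 := by
      show algebraMap B B' (f x) ∈ P1'
      rw [← htower]
      exact hP1'.1.2 (Ideal.mem_sup_right (Ideal.mem_span_singleton_self _))
    have hlt : p < p1 := by
      refine lt_of_le_not_ge ?_ fun h => hxp (h (hP1A ▸ hxP1))
      rw [← hP1A, ← hQA]
      exact Ideal.comap_mono hQP1
    obtain ⟨hmin1, hmin2⟩ := ih p1 hlt inferInstance P1 hP1p1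
    refine ⟨hmin2 P ⟨⟨inferInstance, sup_le ?_ (le_sup_right.trans hP.1.2)⟩, fun R ⟨hR, hle⟩ hRP =>
      hP.2 ⟨hR, (sup_le_sup_right hQP1 _).trans hle⟩ hRP⟩, ?_⟩
    · rw [← hP']; exact Ideal.comap_mono hP1'P'
    -- height
    have hP1'1 : P1'.height ≤ 1 := by
      refine Ideal.height_le_one_of_isPrincipal_of_mem_minimalPrimes (Ideal.span {algebraMap A B' x}) P1' ?_
      refine ⟨⟨inferInstance, le_sup_right.trans hP1'.1.2⟩, fun R ⟨hR, hxR⟩ hRP => ?_⟩
      haveI := hR
      have hq : R.comap (algebraMap A' B') = P1'.comap (algebraMap A' B') := by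
        refine le_antisymm (Ideal.comap_mono hRP) ?_
        by_contra hne
        have h6 := Ideal.height_strict_mono_of_isPrime
          (lt_of_le_not_ge (Ideal.comap_mono (f := algebraMap A' B') hRP) hne)
        have h7 : (R.comap (algebraMap A' B')).height = 0 := by
          by_contra h8
          exact absurd (h6.trans_le hht) (not_lt.2 (Order.one_le_iff_pos.2 (pos_iff_ne_zero.2 h8)))
        rw [Ideal.height_eq_zero_iff_eq_bot] at h7
        have h9 : x' ∈ R.comap (algebraMap A' B') := by
          rw [Ideal.mem_comap, ← IsScalarTower.algebraMap_apply]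
          exact (Ideal.span_singleton_le_iff_mem _).1 hxR
        rw [h7] at h9
        exact hA'x ((Submodule.mem_bot _).1 h9)
      have hqA : (R.comap (algebraMap B B')).comap f = p1 := by
        rw [← hP1A, Ideal.comap_comap, Ideal.comap_comap, ← IsScalarTower.algebraMap_eq,
          IsScalarTower.algebraMap_eq A A' B', ← Ideal.comap_comap, ← Ideal.comap_comap, hq]
      by_contra hne
      refine (Ideal.IsIntegral.comap_lt_comap (R := B) (lt_of_le_not_ge hRP hne)).not_ge ?_
      exact hmin1.2 ⟨inferInstance, Ideal.map_le_iff_le_comap.2 hqA.ge⟩ (Ideal.comap_mono hRP)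
    have hlt' : Q' < P1' := lt_of_le_not_ge (le_sup_left.trans hP1'.1.2)
      fun h => hxQ' (h (hP1'.1.2 (Ideal.mem_sup_right (Ideal.mem_span_singleton_self _))))
    have h10 := (Ideal.height_strict_mono_of_isPrime hlt').trans_le hP1'1
    exact ENat.lt_one_iff_eq_zero.1 h10
  refine ⟨⟨⟨hQp, hpQ⟩, fun R ⟨hR, hpR⟩ hRQ => ?_⟩, fun P hP => (key P hP).1⟩
  obtain ⟨M, hM, hQM⟩ := Ideal.exists_le_maximal Q hQp.ne_top
  haveI := hM.isPrime
  obtain ⟨P, hP, -⟩ := Ideal.exists_minimalPrimes_le (I := Q ⊔ (IsLocalRing.maximalIdeal A).map f) (J := M)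
    (sup_le hQM (hloc.trans (fun z hz => Ideal.mem_sInf.1 hz ⟨bot_le, hM⟩)))
  have hQ'0 := (key P hP).2
  haveI := hR
  haveI := hQ'p
  obtain ⟨R', -, hR'p, hR'⟩ := Ideal.exists_ideal_over_prime_of_isIntegral R (⊥ : Ideal B')
    (fun b hb => hpR ((hker b).1 hb))
  have hle : R' ≤ Q' := fun z hz => by
    obtain ⟨a, ha, b, hab⟩ := hrange z
    have hbQ : b ∈ Q := hRQ (by
      rw [← hR', Ideal.mem_comap, ← hab]
      exact R'.smul_of_tower_mem a hz)
    have h11 : algebraMap A B' a * z ∈ Q' := by
      rw [← Algebra.smul_def, hab, ← Ideal.mem_comap, hQ']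
      exact hbQ
    refine (hQ'p.mem_or_mem h11).resolve_left fun h => ha ?_
    rw [← hQA, Ideal.mem_comap, ← hQ', Ideal.mem_comap, ← htower]
    exact h
  rw [Ideal.height_eq_zero_iff] at hQ'0
  rw [← hQ', ← hR']
  exact Ideal.comap_mono (hQ'0.2 ⟨hR'p, bot_le⟩ hle)


set_option maxHeartbeats 800000 in
/-- Fibres of a flat algebra over a complete Noetherian local ring whose closed fibre has no embedded
components have none, and their components meet the closed fibre in components. -/
theorem fibres_noEmbedded (A B : Type u) [CommRing A] [CommRing B] [IsNoetherianRing A] [IsLocalRing A]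
    [IsAdicComplete (IsLocalRing.maximalIdeal A) A] [IsNoetherianRing B] [Algebra A B] [Module.Flat A B]
    (hloc : (IsLocalRing.maximalIdeal A).map (algebraMap A B) ≤ Ideal.jacobson ⊥)
    (h0 : ∀ Q ∈ associatedPrimes B (B ⧸ (IsLocalRing.maximalIdeal A).map (algebraMap A B)),
      Q ∈ ((IsLocalRing.maximalIdeal A).map (algebraMap A B)).minimalPrimes)
    (p : Ideal A) : p.IsPrime → ∀ Q ∈ associatedPrimes B (B ⧸ p.map (algebraMap A B)),
      Q ∈ (p.map (algebraMap A B)).minimalPrimes ∧
        ∀ P ∈ (Q ⊔ (IsLocalRing.maximalIdeal A).map (algebraMap A B)).minimalPrimes,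
          P ∈ ((IsLocalRing.maximalIdeal A).map (algebraMap A B)).minimalPrimes := by
  induction p using WellFoundedGT.induction with
  | ind p ih =>
  intro hp Q hQ
  classical
  haveI hQp := hQ.isPrime
  have hpQ : p.map (algebraMap A B) ≤ Q :=
    Ideal.map_le_iff_le_comap.2 (comap_eq_of_mem_associatedPrimes p hQ).ge
  by_cases hpm : p = IsLocalRing.maximalIdeal A
  · subst hpm
    refine ⟨h0 Q hQ, fun P hP => ?_⟩
    rw [sup_eq_left.2 hpQ, Ideal.minimalPrimes_eq_subsingleton_self] at hP
    exact (Set.mem_singleton_iff.1 hP) ▸ h0 Q hQ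
  obtain ⟨x, hxm, hxp⟩ := SetLike.not_le_iff_exists.1 fun h =>
    hpm (le_antisymm (IsLocalRing.le_maximalIdeal hp.ne_top) h)
  let K := FractionRing (A ⧸ p)
  let A' := integralClosure (A ⧸ p) K
  haveI : Module.Finite (A ⧸ p) A' := (S0568.result A).2 p K inferInstance
  haveI : IsIntegrallyClosed A' := integralClosure.isIntegrallyClosedOfFiniteExtension K
  haveI : Module.Finite A (A ⧸ p) := Module.Finite.of_surjective
    (Algebra.linearMap A (A ⧸ p)) Ideal.Quotient.mk_surjective
  haveI : Module.Finite A A' := Module.Finite.trans (A ⧸ p) A'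
  haveI : IsNoetherianRing A' := isNoetherianRing_iff.2 (isNoetherian_of_tower A inferInstance)
  refine fibres_noEmbedded_step A B hloc p A'
    ((Algebra.ofId (A ⧸ p) A').restrictScalars A).toLinearMap
    (fun a b h => IsFractionRing.injective (A ⧸ p) K (congrArg Subtype.val h))
    (map_one (Algebra.ofId (A ⧸ p) A')) (fun c => ?_) x hxm hxp ih Q hQ
  obtain ⟨⟨r, ⟨s, hs⟩⟩, hrs⟩ := IsLocalization.surj (nonZeroDivisors (A ⧸ p)) (c : K)
  obtain ⟨s, rfl⟩ := Ideal.Quotient.mk_surjective s
  obtain ⟨r, rfl⟩ := Ideal.Quotient.mk_surjective r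
  refine ⟨s, fun h => nonZeroDivisors.ne_zero hs (Ideal.Quotient.eq_zero_iff_mem.2 h), r, Subtype.ext ?_⟩
  show s • (c : K) = algebraMap A K r
  rw [Algebra.smul_def, mul_comm, IsScalarTower.algebraMap_apply A (A ⧸ p) K s,
    IsScalarTower.algebraMap_apply A (A ⧸ p) K r]
  exact hrs

end Groth.Agent.CAlg7
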