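import Groth.Agent.CAlg7.EtaleOfRank
import Groth.Agent.Var76.KaehlerFibre
import Groth.Agent.E4O.DimField
import Groth.Agent.E4O.DimFormula
import Mathlib.RingTheory.Smooth.StandardSmoothOfFree
import Mathlib.RingTheory.Flat.TorsionFree
import Mathlib.RingTheory.Ideal.MinimalPrime.Localization
import Mathlib.RingTheory.DiscreteValuationRing.Basic
import Mathlib.RingTheory.TensorProduct.MvPolynomial
import Mathlib.RingTheory.Spectrum.Prime.FreeLocus
import Mathlib.RingTheory.LocalProperties.Basic
import Mathlib.RingTheory.AlgebraicIndependent.TranscendenceBasis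

/-!
Fibre dimensions of a flat algebra over a discrete valuation ring with smooth generic fibre.
-/

set_option autoImplicit false
set_option linter.style.haveILetI false

universe u

open TensorProduct KaehlerDifferential CategoryTheory AlgebraicGeometry

namespace Groth.Agent.CAlg7

/-- A surjection bounds the dimension by the dimensions of the prime quotients it meets. -/
theorem ringKrullDim_le_of_primes {R S : Type u} [CommRing R] [CommRing S] (φ : R →+* S)
    (hφ : Function.Surjective φ) (d : ℕ)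
    (h : ∀ P : Ideal R, P.IsPrime → RingHom.ker φ ≤ P → ringKrullDim (R ⧸ P) ≤ (d : WithBot ℕ∞)) :
    ringKrullDim S ≤ (d : WithBot ℕ∞) := by
  rw [ringKrullDim, Order.krullDim]
  refine iSup_le fun l => ?_
  have hd := h (l.head.asIdeal.comap φ) inferInstance (Ideal.comap_mono (bot_le (a := l.head.asIdeal)))
  rw [ringKrullDim_quotient] at hd
  let l' : LTSeries (PrimeSpectrum.zeroLocus ((l.head.asIdeal.comap φ : Ideal R) : Set R)) :=
    { length := l.length
      toFun := fun i => ⟨PrimeSpectrum.comap φ (l i),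
        fun x hx => (show l.head.asIdeal ≤ (l i).asIdeal from l.head_le i) hx⟩
      step := fun i => lt_of_le_of_ne
        (Ideal.comap_mono (show (l i.castSucc).asIdeal ≤ (l i.succ).asIdeal from (l.step i).le))
        fun he => (l.step i).ne (PrimeSpectrum.comap_injective_of_surjective φ hφ (PrimeSpectrum.ext he)) }
  exact le_trans (Order.LTSeries.length_le_krullDim l') hd

/-- The polynomial algebra is standard smooth of relative dimension the number of variables. -/
theorem isStandardSmoothOfRelativeDimension_mvPolynomial (K : Type u) [Field K] (d : ℕ) :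
    Algebra.IsStandardSmoothOfRelativeDimension d K (MvPolynomial (Fin d) K) := by
  haveI : Algebra.IsStandardSmooth K (MvPolynomial (Fin d) K) :=
    Algebra.IsStandardSmooth.of_basis_kaehlerDifferential (mvPolynomialBasis K (Fin d)) (by
      rintro _ ⟨i, rfl⟩
      exact ⟨MvPolynomial.X i, (mvPolynomialBasis_apply _ _ _).symm⟩)
  rw [Algebra.IsStandardSmoothOfRelativeDimension.iff_of_isStandardSmooth,
    rank_eq_card_basis (mvPolynomialBasis K (Fin d)), Fintype.card_fin]

theorem smoothOfRelativeDimension_tensor_mvPolynomial (V K : Type u) [CommRing V] [Field K] [Algebra V K]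
    (d : ℕ) : SmoothOfRelativeDimension d
      (Spec.map (CommRingCat.ofHom (algebraMap K (K ⊗[V] MvPolynomial (Fin d) V)))) := by
  rw [HasRingHomProperty.Spec_iff (P := @AlgebraicGeometry.SmoothOfRelativeDimension d)]
  haveI := isStandardSmoothOfRelativeDimension_mvPolynomial K d
  haveI : Algebra.IsStandardSmoothOfRelativeDimension d K (K ⊗[V] MvPolynomial (Fin d) V) :=
    Algebra.IsStandardSmoothOfRelativeDimension.of_algEquiv (n := d)
      (MvPolynomial.algebraTensorAlgEquiv V K).symm
  exact RingHom.locally_of RingHom.isStandardSmoothOfRelativeDimension_respectsIso _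
    ((RingHom.isStandardSmoothOfRelativeDimension_algebraMap d).mpr inferInstance)

/-- Locally standard smooth of relative dimension `d` over a field: prime quotients have dimension at most `d`. -/
theorem ringKrullDim_quotient_le_of_locally {K S : Type u} [Field K] [CommRing S] [Algebra K S]
    [Algebra.FiniteType K S] {d : ℕ}
    (h : RingHom.Locally (RingHom.IsStandardSmoothOfRelativeDimension d) (algebraMap K S))
    (q : Ideal S) [q.IsPrime] : ringKrullDim (S ⧸ q) ≤ (d : WithBot ℕ∞) := by
  have hsm : (algebraMap K S).Smooth := RingHom.smooth_iff_locally_isStandardSmooth.mpr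
    (RingHom.locally_of_locally (fun h => h.isStandardSmooth) h)
  rw [RingHom.smooth_algebraMap] at hsm
  haveI := hsm
  have := Var76.KaehlerFibre.ringKrullDim_quotient_le_finrank K S q q le_rfl
  rwa [← Module.rankAtStalk_eq ⟨q, inferInstance⟩, rankAtStalk_kaehler_of_locally h] at this

theorem trdeg_lt_aleph0 (K S : Type u) [Field K] [CommRing S] [IsDomain S] [Algebra K S]
    [Algebra.FiniteType K S] : Algebra.trdeg K S < Cardinal.aleph0 := by
  obtain ⟨n, f, hf⟩ := Algebra.FiniteType.iff_quotient_mvPolynomial''.1 ‹Algebra.FiniteType K S›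
  refine (trdeg_le_of_surjective f hf).trans_lt ?_
  rw [MvPolynomial.trdeg_of_isDomain]
  simp

theorem ringKrullDim_closedFibre_le (V : Type u) [CommRing V] [IsDomain V] [IsDiscreteValuationRing V]
    (R : Type u) [CommRing R] [Algebra V R] [Module.Flat V R] [Algebra.FiniteType V R] (d : ℕ)
    (h : RingHom.Locally (RingHom.IsStandardSmoothOfRelativeDimension d)
      (algebraMap (FractionRing V) (FractionRing V ⊗[V] R))) :
    ringKrullDim (IsLocalRing.ResidueField V ⊗[V] R) ≤ (d : WithBot ℕ∞) := by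
  classical
  obtain ⟨ϖ, hϖ⟩ := IsDiscreteValuationRing.exists_irreducible V
  let k := IsLocalRing.ResidueField V
  let K := FractionRing V
  let φ : R →ₐ[V] k ⊗[V] R := Algebra.TensorProduct.includeRight
  have hφ : Function.Surjective φ := fun z => by
    induction z using TensorProduct.induction_on with
    | zero => exact ⟨0, map_zero φ⟩
    | tmul c r =>
      obtain ⟨v, rfl⟩ := IsLocalRing.residue_surjective c
      refine ⟨v • r, ?_⟩
      show (1 : k) ⊗ₜ[V] (v • r) = IsLocalRing.residue V v ⊗ₜ[V] r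
      rw [← TensorProduct.smul_tmul, Algebra.smul_def, mul_one]
      rfl
    | add x y hx hy =>
      obtain ⟨a, rfl⟩ := hx
      obtain ⟨b, rfl⟩ := hy
      exact ⟨a + b, map_add φ a b⟩
  refine ringKrullDim_le_of_primes φ.toRingHom hφ d fun P hP hle => ?_
  have hPϖ : algebraMap V R ϖ ∈ P := hle (by
    show φ (algebraMap V R ϖ) = 0
    rw [AlgHom.commutes, IsScalarTower.algebraMap_apply V k (k ⊗[V] R)]
    have : algebraMap V k ϖ = 0 := (IsLocalRing.residue_eq_zero_iff ϖ).mpr
      (hϖ.maximalIdeal_eq ▸ Ideal.mem_span_singleton_self ϖ)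
    rw [this, map_zero])
  obtain ⟨P0, hP0, hP0P⟩ := Ideal.exists_minimalPrimes_le (I := (⊥ : Ideal R)) (J := P) bot_le
  haveI : P0.IsPrime := hP0.1.1
  have hreg : algebraMap V R ϖ ∈ nonZeroDivisors R := by
    have hr := Module.Flat.isSMulRegular_of_nonZeroDivisors (M := R)
      (mem_nonZeroDivisors_of_ne_zero hϖ.ne_zero)
    refine mem_nonZeroDivisors_iff_right.mpr fun x hx => hr (?_ : ϖ • x = ϖ • 0)
    rw [smul_zero, Algebra.smul_def, mul_comm]
    exact hx
  have hP0ϖ : algebraMap V R ϖ ∉ P0 :=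
    fun hmem => Set.disjoint_left.mp (Ideal.disjoint_nonZeroDivisors_of_mem_minimalPrimes hP0) hmem hreg
  have hinj0 : Function.Injective (algebraMap V (R ⧸ P0)) := by
    rw [injective_iff_map_eq_zero]
    intro v hv
    by_contra hv0
    obtain ⟨j, u, rfl⟩ := IsDiscreteValuationRing.eq_unit_mul_pow_irreducible hv0 hϖ
    rw [map_mul, map_pow, IsUnit.mul_right_eq_zero (u.isUnit.map _)] at hv
    exact hP0ϖ (Ideal.Quotient.eq_zero_iff_mem.mp (eq_zero_of_pow_eq_zero hv))
  haveI : FaithfulSMul V (R ⧸ P0) := (faithfulSMul_iff_algebraMap_injective V _).mpr hinj0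
  -- transcendence degree at the generic point
  have hgen : Algebra.trdeg V (R ⧸ P0) ≤ (d : Cardinal.{u}) := by
    let L := P0.ResidueField
    have hu : ∀ v : nonZeroDivisors V, IsUnit (algebraMap V L v) := fun v => by
      refine isUnit_iff_ne_zero.mpr fun h0 => ?_
      rw [IsScalarTower.algebraMap_apply V (R ⧸ P0) L,
        map_eq_zero_iff _ (IsFractionRing.injective (R ⧸ P0) L)] at h0
      exact nonZeroDivisors.ne_zero v.2 (hinj0 (h0.trans (map_zero _).symm))
    let KL : K →ₐ[V] L := IsLocalization.liftAlgHom (f := Algebra.ofId V L) hu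
    let g : K ⊗[V] R →ₐ[V] L :=
      Algebra.TensorProduct.lift KL (IsScalarTower.toAlgHom V R L) (fun x y => Commute.all _ _)
    let q : Ideal (K ⊗[V] R) := RingHom.ker g
    haveI : q.IsPrime := RingHom.ker_isPrime g
    let incl : R →ₐ[V] K ⊗[V] R := Algebra.TensorProduct.includeRight
    have hcomp : ∀ r : R, g (incl r) = algebraMap R L r := fun r => by simp [g, incl]
    let ψ : (R ⧸ P0) →ₐ[V] (K ⊗[V] R) ⧸ q :=
      Ideal.Quotient.liftₐ P0 ((Ideal.Quotient.mkₐ V q).comp incl) fun r hr => by
        refine Ideal.Quotient.eq_zero_iff_mem.mpr (RingHom.mem_ker.mpr ?_)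
        show g (incl r) = 0
        rw [hcomp]
        exact Ideal.algebraMap_residueField_eq_zero.mpr hr
    have hψ : Function.Injective ψ := (injective_iff_map_eq_zero ψ).mpr fun x hx => by
      obtain ⟨r, rfl⟩ := Ideal.Quotient.mk_surjective x
      have hr : incl r ∈ q := Ideal.Quotient.eq_zero_iff_mem.mp hx
      rw [RingHom.mem_ker, hcomp] at hr
      exact Ideal.Quotient.eq_zero_iff_mem.mpr (Ideal.algebraMap_residueField_eq_zero.mp hr)
    refine le_trans (trdeg_le_of_injective (A := R ⧸ P0) (A' := (K ⊗[V] R) ⧸ q) ψ hψ) ?_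
    haveI : FaithfulSMul K ((K ⊗[V] R) ⧸ q) :=
      (faithfulSMul_iff_algebraMap_injective K _).mpr (algebraMap K _).injective
    haveI : FaithfulSMul V K := (faithfulSMul_iff_algebraMap_injective V K).mpr (IsFractionRing.injective V K)
    haveI : Algebra.IsAlgebraic V K := IsLocalization.isAlgebraic K (nonZeroDivisors V)
    rw [← trdeg_add_eq V K (A := (K ⊗[V] R) ⧸ q), trdeg_eq_zero, zero_add]
    have hd := ringKrullDim_quotient_le_of_locally h q
    rw [E4O.ringKrullDim_eq_trdeg K ((K ⊗[V] R) ⧸ q)] at hd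
    rw [← Cardinal.cast_toNat_of_lt_aleph0 (trdeg_lt_aleph0 K ((K ⊗[V] R) ⧸ q))]
    exact_mod_cast hd
  -- the closed point
  let q : Ideal (R ⧸ P0) := P.map (Ideal.Quotient.mk P0)
  have hker : RingHom.ker (Ideal.Quotient.mk P0) ≤ P := by rw [Ideal.mk_ker]; exact hP0P
  haveI : q.IsPrime := Ideal.map_isPrime_of_surjective Ideal.Quotient.mk_surjective hker
  have hqϖ : algebraMap V (R ⧸ P0) ϖ ∈ q := Ideal.mem_map_of_mem (Ideal.Quotient.mk P0) hPϖ
  let m := IsLocalRing.maximalIdeal V
  haveI : q.LiesOver m := ⟨(Ideal.IsMaximal.eq_of_le inferInstance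
    (Ideal.IsPrime.ne_top inferInstance) (by
      rw [show m = Ideal.span {ϖ} from hϖ.maximalIdeal_eq, Ideal.span_le, Set.singleton_subset_iff]
      exact hqϖ))⟩
  have hdim := E4O.height_add_trdeg_le V (R ⧸ P0) m q
  have hm : m.height = 1 := by
    refine WithBot.coe_inj.mp ?_
    rw [IsLocalRing.maximalIdeal_height_eq_ringKrullDim, IsDiscreteValuationRing.ringKrullDim_eq_one]
    rfl
  have hq1 : 1 ≤ q.height := by
    rw [Order.one_le_iff_pos, pos_iff_ne_zero, Ne, Ideal.height_eq_zero_iff,
      IsDomain.minimalPrimes_eq_singleton_bot, Set.mem_singleton_iff]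
    intro h0
    exact hP0ϖ (Ideal.Quotient.eq_zero_iff_mem.mp ((Submodule.mem_bot _).mp (h0 ▸ hqϖ)))
  letI : Field (V ⧸ m) := Ideal.Quotient.field m
  haveI : Algebra.FiniteType V ((R ⧸ P0) ⧸ q) :=
    Algebra.FiniteType.trans (S := R ⧸ P0) inferInstance inferInstance
  haveI : Algebra.FiniteType (V ⧸ m) ((R ⧸ P0) ⧸ q) := Algebra.FiniteType.of_restrictScalars_finiteType V _ _
  have hbound : (Cardinal.ofENat 1 : Cardinal.{u}) + Algebra.trdeg (V ⧸ m) ((R ⧸ P0) ⧸ q) ≤
      Cardinal.ofENat 1 + (d : Cardinal.{u}) := by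
    refine le_trans (add_le_add (Cardinal.ofENat_le_ofENat.mpr hq1) le_rfl) (hdim.trans ?_)
    rw [hm]
    exact add_le_add le_rfl hgen
  rw [← Cardinal.cast_toNat_of_lt_aleph0 (trdeg_lt_aleph0 (V ⧸ m) ((R ⧸ P0) ⧸ q)),
    Cardinal.ofENat_one] at hbound
  have hn : Cardinal.toNat (Algebra.trdeg (V ⧸ m) ((R ⧸ P0) ⧸ q)) ≤ d := by
    norm_cast at hbound; omega
  rw [← ringKrullDim_eq_of_ringEquiv (DoubleQuot.quotQuotEquivQuotOfLE hP0P),
    E4O.ringKrullDim_eq_trdeg (V ⧸ m) ((R ⧸ P0) ⧸ q)]
  exact_mod_cast hn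

end Groth.Agent.CAlg7
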