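import Mathlib.AlgebraicGeometry.Morphisms.Smooth
import Mathlib.RingTheory.Smooth.StandardSmoothCotangent
import Mathlib.RingTheory.Spectrum.Prime.FreeLocus
import Mathlib.RingTheory.Etale.Kaehler
import Mathlib.RingTheory.Etale.Basic
import Mathlib.RingTheory.Kaehler.JacobiZariski

/-!
An unramified map between smooth algebras of the same relative dimension is etale.
-/

set_option autoImplicit false
set_option linter.style.haveILetI false

universe u

open TensorProduct KaehlerDifferential CategoryTheory AlgebraicGeometry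

namespace Groth.Agent.CAlg7

/-- Locally standard smooth of relative dimension `d`: the differentials have rank `d` everywhere. -/
theorem rankAtStalk_kaehler_of_locally {K S : Type u} [CommRing K] [CommRing S] [Algebra K S]
    [Algebra.EssFiniteType K S] [Algebra.FormallySmooth K S] {d : ℕ}
    (h : RingHom.Locally (RingHom.IsStandardSmoothOfRelativeDimension d) (algebraMap K S))
    (p : PrimeSpectrum S) : Module.rankAtStalk (Ω[S⁄K]) p = d := by
  obtain ⟨s, hs, hP⟩ := h
  obtain ⟨t, ht, htp⟩ : ∃ t ∈ s, t ∉ p.asIdeal := by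
    by_contra hc
    push Not at hc
    exact p.2.ne_top (top_le_iff.mp (hs ▸ Ideal.span_le.mpr hc))
  let T := Localization.Away t
  haveI hT : Algebra.IsStandardSmoothOfRelativeDimension d K T := by
    have := hP t ht
    rw [← IsScalarTower.algebraMap_eq, RingHom.IsStandardSmoothOfRelativeDimension, toAlgebra_algebraMap] at this
    exact this
  haveI : Algebra.IsStandardSmooth K T := Algebra.IsStandardSmoothOfRelativeDimension.isStandardSmooth d
  haveI : Algebra.FormallyEtale S T := Algebra.FormallyEtale.of_isLocalization (Submonoid.powers t)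
  obtain ⟨q, hq⟩ : ∃ q : PrimeSpectrum T, q.comap (algebraMap S T) = p := by
    have : p ∈ Set.range (PrimeSpectrum.comap (algebraMap S T)) := by
      rw [PrimeSpectrum.localization_away_comap_range T t]
      exact htp
    exact this
  haveI : Nontrivial T := q.nontrivial
  have hfin : Module.Finite T (Ω[T⁄K]) := inferInstance
  rw [← hq, ← Module.rankAtStalk_baseChange,
    Module.rankAtStalk_eq_of_equiv (KaehlerDifferential.tensorKaehlerEquivOfFormallyEtale K S T),
    Module.rankAtStalk_eq_finrank_of_free]
  simp only [Pi.natCast_apply]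
  rw [Module.finrank_eq_of_rank_eq (Algebra.IsStandardSmoothOfRelativeDimension.rank_kaehlerDifferential (R := K) d)]
  rfl

/-- An unramified map between formally smooth algebras with differentials of equal rank is formally etale. -/
theorem formallyEtale_of_rank (K : Type u) [CommRing K] {S T : Type u} [CommRing S] [CommRing T] [Algebra K S] [Algebra K T]
    [Algebra S T] [IsScalarTower K S T] [Algebra.EssFiniteType K S] [Algebra.EssFiniteType K T]
    [Algebra.FormallySmooth K S] [Algebra.FormallySmooth K T] {d : ℕ}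
    (hS : ∀ p : PrimeSpectrum S, Module.rankAtStalk (Ω[S⁄K]) p = d) (hT : ∀ p : PrimeSpectrum T, Module.rankAtStalk (Ω[T⁄K]) p = d)
    [hU : Subsingleton (Ω[T⁄S])] : Algebra.FormallyEtale S T := by
  let f := KaehlerDifferential.mapBaseChange K S T
  have hsurj : Function.Surjective f := fun x =>
    (KaehlerDifferential.exact_mapBaseChange_map K S T x).mp (Subsingleton.elim _ _)
  obtain ⟨s, hs⟩ := Module.projective_lifting_property f LinearMap.id hsurj
  have hs' : ∀ y, f (s y) = y := fun y => LinearMap.congr_fun hs y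
  let N := LinearMap.ker f
  let π : (T ⊗[S] Ω[S⁄K]) →ₗ[T] N := (LinearMap.id - s ∘ₗ f).codRestrict N fun x => by
    simp [N, hs']
  have hπ : π ∘ₗ N.subtype = LinearMap.id := LinearMap.ext fun x => Subtype.ext (by
    show (x : T ⊗[S] Ω[S⁄K]) - s (f x) = x
    rw [show f (x : T ⊗[S] Ω[S⁄K]) = 0 from x.2, map_zero, sub_zero])
  have hπs : Function.Surjective π := fun x => ⟨x, LinearMap.congr_fun hπ x⟩
  haveI : Module.Finite T N := Module.Finite.of_surjective π hπs
  haveI : Module.Projective T N := Module.Projective.of_split N.subtype π hπ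
  let e : (N × Ω[T⁄K]) ≃ₗ[T] T ⊗[S] Ω[S⁄K] :=
    LinearEquiv.ofLinear (N.subtype.coprod s) (π.prod f)
      (LinearMap.ext fun x => by
        show ((π x : N) : T ⊗[S] Ω[S⁄K]) + s (f x) = x
        exact sub_add_cancel _ _)
      (LinearMap.ext fun ⟨x, y⟩ => by
        have hfx : f (x : T ⊗[S] Ω[S⁄K]) = 0 := x.2
        refine Prod.ext (Subtype.ext ?_) ?_
        · show ((x : T ⊗[S] Ω[S⁄K]) + s y) - s (f ((x : T ⊗[S] Ω[S⁄K]) + s y)) = x
          rw [map_add, hfx, zero_add, hs', add_sub_cancel_right]
        · show f ((x : T ⊗[S] Ω[S⁄K]) + s y) = y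
          rw [map_add, hfx, zero_add, hs'])
  haveI hN : Subsingleton N := by
    rw [← Module.rankAtStalk_eq_zero_iff_subsingleton (R := T)]
    funext p
    have h1 := congrFun (Module.rankAtStalk_eq_of_equiv (M := N × Ω[T⁄K]) (N := T ⊗[S] Ω[S⁄K]) e) p
    rw [Module.rankAtStalk_prod, Pi.add_apply, Module.rankAtStalk_baseChange, hS, hT] at h1
    simpa using h1
  have hinj : Function.Injective f :=
    LinearMap.ker_eq_bot.mp (Submodule.subsingleton_iff_eq_bot.mp hN)
  refine ⟨hU, ⟨fun x y => ?_⟩⟩
  suffices hz : ∀ x : Algebra.H1Cotangent S T, x = 0 from (hz x).trans (hz y).symm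
  intro x
  have hδ : Algebra.H1Cotangent.δ K S T x = 0 := by
    apply hinj
    rw [map_zero]
    exact (Algebra.H1Cotangent.exact_δ_mapBaseChange K S T).apply_apply_eq_zero x
  obtain ⟨y, rfl⟩ := (Algebra.H1Cotangent.exact_map_δ K S T x).mp hδ
  rw [Subsingleton.elim y 0, map_zero]

end Groth.Agent.CAlg7
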