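import Mathlib.LinearAlgebra.Matrix.MvPolynomial
import Mathlib.LinearAlgebra.Matrix.Charpoly.Coeff
import Mathlib.RingTheory.AdjoinRoot
import Mathlib.RingTheory.Flat.FaithfullyFlat.Basic
import Mathlib.Algebra.Polynomial.AlgebraMap
import Mathlib.RingTheory.MvPolynomial.Basic

/-!
The generic determinant becomes a monic polynomial in one variable after a linear change of variables.
-/

set_option autoImplicit false

namespace Groth.Agent.CAlg7

universe u

open Polynomial

variable (A : Type u) [CommRing A] (n : ℕ) [NeZero n]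

/-- The variables other than the upper left corner. -/
abbrev DetVar : Type := {p : Fin n × Fin n // p ≠ (0, 0)}

/-- The matrix of remaining variables (zero in the corner). -/
noncomputable def detMatrix : Matrix (Fin n) (Fin n) (MvPolynomial (DetVar n) A) :=
  Matrix.of fun i j => if h : (i, j) = (0, 0) then 0 else MvPolynomial.X ⟨(i, j), h⟩

/-- `X_ij ↦ δ_ij t + Y_ij`. -/
noncomputable def detShift : MvPolynomial (Fin n × Fin n) A →ₐ[A] (MvPolynomial (DetVar n) A)[X] :=
  MvPolynomial.aeval fun p => Matrix.charmatrix (-detMatrix A n) p.1 p.2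

/-- The inverse of `detShift`. -/
noncomputable def detUnshift : (MvPolynomial (DetVar n) A)[X] →ₐ[A] MvPolynomial (Fin n × Fin n) A :=
  Polynomial.aevalTower
    (MvPolynomial.aeval fun p : DetVar n =>
      if p.1.1 = p.1.2 then MvPolynomial.X p.1 - MvPolynomial.X (0, 0) else MvPolynomial.X p.1)
    (MvPolynomial.X (0, 0))

/-- The linear change of variables. -/
noncomputable def detEquiv : MvPolynomial (Fin n × Fin n) A ≃ₐ[A] (MvPolynomial (DetVar n) A)[X] := by
  refine AlgEquiv.ofAlgHom (detShift A n) (detUnshift A n) ?_ ?_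
  · refine Polynomial.algHom_ext' (MvPolynomial.algHom_ext fun p => ?_) ?_
    · obtain ⟨⟨i, j⟩, hp⟩ := p
      simp only [AlgHom.comp_apply, AlgHom.coe_id, id_eq, detUnshift, IsScalarTower.coe_toAlgHom',
        Polynomial.algebraMap_eq, Polynomial.aevalTower_C, MvPolynomial.aeval_X]
      by_cases hij : i = j
      · subst hij
        have hp' : i ≠ 0 := fun h => hp (by rw [h])
        simp [detShift, Matrix.charmatrix_apply, detMatrix, hp']
      · have hp' : ¬(i = 0 ∧ j = 0) := fun h => hij (h.1.trans h.2.symm)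
        simp [hij, detShift, Matrix.charmatrix_apply, detMatrix, hp']
    · simp [detUnshift, detShift, Matrix.charmatrix_apply, detMatrix]
  · refine MvPolynomial.algHom_ext fun p => ?_
    obtain ⟨i, j⟩ := p
    simp only [AlgHom.comp_apply, AlgHom.coe_id, id_eq, detShift, MvPolynomial.aeval_X,
      Matrix.charmatrix_apply, Matrix.neg_apply, map_neg, sub_neg_eq_add, detMatrix, Matrix.of_apply]
    by_cases hp : (i, j) = (0, 0)
    · obtain ⟨rfl, rfl⟩ := Prod.ext_iff.1 hp
      simp [detUnshift]
    · by_cases hij : i = j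
      · subst hij
        simp [detUnshift, hp]
      · simp [detUnshift, hp, hij]

theorem detEquiv_det :
    detEquiv A n (Matrix.mvPolynomialX (Fin n) (Fin n) A).det = (-detMatrix A n).charpoly := by
  show detShift A n _ = _
  rw [AlgHom.map_det, Matrix.charpoly]
  congr 1
  exact Matrix.ext fun i j => MvPolynomial.aeval_X _ _

theorem det_mvPolynomialX_mem_nonZeroDivisors :
    (Matrix.mvPolynomialX (Fin n) (Fin n) A).det ∈ nonZeroDivisors (MvPolynomial (Fin n × Fin n) A) := by
  refine mem_nonZeroDivisors_iff_right.2 fun x hx => (detEquiv A n).injective ?_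
  have h := congrArg (detEquiv A n) hx
  rw [map_mul, map_zero, detEquiv_det, (Matrix.charpoly_monic _).mul_left_eq_zero_iff] at h
  rw [h, map_zero]

theorem faithfullyFlat_quotient_det :
    Module.FaithfullyFlat A
      (MvPolynomial (Fin n × Fin n) A ⧸ Ideal.span {(Matrix.mvPolynomialX (Fin n) (Fin n) A).det}) := by
  rcases subsingleton_or_nontrivial A with hA | hA
  · haveI : Subsingleton (MvPolynomial (Fin n × Fin n) A ⧸
        Ideal.span {(Matrix.mvPolynomialX (Fin n) (Fin n) A).det}) := Module.subsingleton A _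
    exact ⟨fun m hm => absurd (Subsingleton.elim m ⊤) hm.ne_top⟩
  let f := (-detMatrix A n).charpoly
  have hf : f.Monic := Matrix.charpoly_monic _
  let e : (MvPolynomial (Fin n × Fin n) A ⧸ Ideal.span {(Matrix.mvPolynomialX (Fin n) (Fin n) A).det})
      ≃ₐ[A] AdjoinRoot f :=
    Ideal.quotientEquivAlg _ _ (detEquiv A n) (by
      rw [Ideal.map_span, Set.image_singleton]
      exact congrArg (fun x => Ideal.span {x}) (detEquiv_det A n).symm)
  haveI : Module.Free A (AdjoinRoot f) :=
    Module.Free.of_basis ((MvPolynomial.basisMonomials (DetVar n) A).smulTower (AdjoinRoot.powerBasis' hf).basis)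
  have hdim : 0 < (AdjoinRoot.powerBasis' hf).dim := by
    show 0 < f.natDegree
    rw [Matrix.charpoly_natDegree_eq_dim, Fintype.card_fin]
    exact Nat.pos_of_ne_zero (NeZero.ne n)
  haveI : Nontrivial (AdjoinRoot f) :=
    ⟨⟨_, 0, (AdjoinRoot.powerBasis' hf).basis.ne_zero ⟨0, hdim⟩⟩⟩
  exact Module.FaithfullyFlat.of_linearEquiv _ _ e.toLinearEquiv

end Groth.Agent.CAlg7
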