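import Mathlib.Algebra.MonoidAlgebra.NoZeroDivisors
import Mathlib.Algebra.MonoidAlgebra.MapDomain
import Mathlib.Algebra.Group.UniqueProds.Basic
import Mathlib.RingTheory.Nilpotent.Lemmas
import Mathlib.RingTheory.Ideal.Quotient.Operations

/-!
Units of group algebras of groups with two unique sums: over a reduced connected ring they are
monomials.
-/

set_option autoImplicit false

namespace Groth.Agent.CAlg7

open AddMonoidAlgebra

variable {A G : Type*} [CommRing A] [AddCommGroup G] [TwoUniqueSums G]

theorem coeff_mul_coeff_eq_zero_of_isDomain [IsDomain A] {u v : AddMonoidAlgebra A G}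
    (h : u * v = 1) {i j : G} (hij : i + j ≠ 0) : u.coeff i * v.coeff j = 0 := by
  classical
  by_contra hne
  obtain ⟨hu, hv⟩ := mul_ne_zero_iff.1 hne
  have key : ∀ p ∈ u.coeff.support ×ˢ v.coeff.support,
      UniqueAdd u.coeff.support v.coeff.support p.1 p.2 → p.1 + p.2 = 0 := by
    intro p hp hup
    by_contra hp0
    have h1 := coeff_mul_add_of_uniqueAdd hup
    rw [h, AddMonoidAlgebra.one_def, coeff_single, Finsupp.single_eq_of_ne (Ne.symm (Ne.symm hp0))] at h1
    rw [Finset.mem_product, Finsupp.mem_support_iff, Finsupp.mem_support_iff] at hp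
    exact mul_ne_zero hp.1 hp.2 h1.symm
  have hij' : (i, j) ∈ u.coeff.support ×ˢ v.coeff.support := by simp [hu, hv]
  by_cases hc : 1 < u.coeff.support.card * v.coeff.support.card
  · obtain ⟨p, hp, q, hq, hpq, hup, huq⟩ := TwoUniqueSums.uniqueAdd_of_one_lt_card hc
    rw [Finset.mem_product] at hp hq
    obtain ⟨e1, e2⟩ := hup hq.1 hq.2 ((key q (Finset.mem_product.2 hq) huq).trans
      (key p (Finset.mem_product.2 hp) hup).symm)
    exact hpq (Prod.ext e1.symm e2.symm)
  · rw [not_lt, ← Finset.card_product, Finset.card_le_one] at hc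
    refine hij (key (i, j) hij' ?_)
    intro a b ha hb _
    have := hc (a, b) (Finset.mem_product.2 ⟨ha, hb⟩) (i, j) hij'
    exact ⟨congrArg Prod.fst this, congrArg Prod.snd this⟩

theorem coeff_mul_coeff_eq_zero [IsReduced A] {u v : AddMonoidAlgebra A G}
    (h : u * v = 1) {i j : G} (hij : i + j ≠ 0) : u.coeff i * v.coeff j = 0 := by
  have key : u.coeff i * v.coeff j ∈ nilradical A := by
    rw [nilradical_eq_sInf, Submodule.mem_sInf]
    intro P hP
    haveI : Ideal.IsPrime P := hP
    rw [← Ideal.Quotient.eq_zero_iff_mem, map_mul]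
    let φ := AddMonoidAlgebra.mapRingHom G (Ideal.Quotient.mk P)
    have := coeff_mul_coeff_eq_zero_of_isDomain (u := φ u) (v := φ v)
      (by rw [← map_mul, h, map_one]) hij
    simpa [φ] using this
  exact (mem_nilradical.1 key).eq_zero

/-- Over a reduced ring with connected spectrum the units of `A[G]` are monomials. -/
theorem exists_unit_eq_single [IsReduced A] [Nontrivial A]
    (hconn : ∀ e : A, IsIdempotentElem e → e = 0 ∨ e = 1) (u : (AddMonoidAlgebra A G)ˣ) :
    ∃ (a : Aˣ) (g : G), (u : AddMonoidAlgebra A G) = single g (a : A) := by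
  classical
  let x : AddMonoidAlgebra A G := u
  let y : AddMonoidAlgebra A G := ↑u⁻¹
  have hxy : x * y = 1 := u.mul_inv
  have h0 : ∀ i j, i + j ≠ 0 → x.coeff i * y.coeff j = 0 := fun i j hij =>
    coeff_mul_coeff_eq_zero hxy hij
  have hsum : ∑ i ∈ x.coeff.support, x.coeff i * y.coeff (-i) = 1 := by
    have h := congrArg (fun z => z.coeff 0) hxy
    simp only [AddMonoidAlgebra.one_def, coeff_single, Finsupp.single_eq_same, coeff_mul] at h
    rw [← h, Finsupp.sum]
    refine Finset.sum_congr rfl fun i _ => ?_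
    rw [Finsupp.sum, Finset.sum_eq_single (-i)]
    · simp
    · intro b _ hb
      rw [if_neg (fun e => hb (eq_neg_of_add_eq_zero_right e))]
    · intro hb
      simp [Finsupp.notMem_support_iff.1 hb]
  have hidem : ∀ i ∈ x.coeff.support, IsIdempotentElem (x.coeff i * y.coeff (-i)) := by
    intro i hi
    have h := congrArg (x.coeff i * y.coeff (-i) * ·) hsum
    simp only [mul_one, Finset.mul_sum] at h
    rw [Finset.sum_eq_single_of_mem i hi] at h
    · exact h
    · intro j _ hj
      calc x.coeff i * y.coeff (-i) * (x.coeff j * y.coeff (-j))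
          = x.coeff i * y.coeff (-j) * (x.coeff j * y.coeff (-i)) := by ring
        _ = 0 := by
          rw [h0 i (-j) (by rw [← sub_eq_add_neg, sub_ne_zero]; exact Ne.symm hj), zero_mul]
  obtain ⟨g, hg, hg1⟩ : ∃ g ∈ x.coeff.support, x.coeff g * y.coeff (-g) = 1 := by
    by_contra hcon
    refine one_ne_zero (α := A) (hsum.symm.trans (Finset.sum_eq_zero fun i hi => ?_))
    exact (hconn _ (hidem i hi)).resolve_right fun h1 => hcon ⟨i, hi, h1⟩
  refine ⟨⟨x.coeff g, y.coeff (-g), hg1, by rw [mul_comm]; exact hg1⟩, g, ?_⟩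
  ext j
  rw [coeff_single]
  by_cases hj : j = g
  · subst hj; simp [x]
  · rw [Finsupp.single_eq_of_ne hj]
    show x.coeff j = 0
    calc x.coeff j = x.coeff j * (x.coeff g * y.coeff (-g)) := by rw [hg1, mul_one]
      _ = x.coeff g * (x.coeff j * y.coeff (-g)) := by ring
      _ = 0 := by rw [h0 j (-g) (by rwa [← sub_eq_add_neg, sub_ne_zero]), mul_zero]

end Groth.Agent.CAlg7
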