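import Groth.Statements.S12625
import Mathlib.RingTheory.WittVector.Basic
import Mathlib.RingTheory.WittVector.Teichmuller
import Mathlib.Algebra.MvPolynomial.PDeriv
import Mathlib.Algebra.MvPolynomial.CommRing
import Mathlib.RingTheory.Kaehler.Basic
import Mathlib.Algebra.CharP.Algebra

/-! The filtration `Σ^i` of differentials generated by `x^(p^j-1) dx`, `j < i`. -/

universe u v

namespace Groth.Agent.CAlg7.PDiffSigma

open MvPolynomial W4bk4bump814p2

theorem chain_rule {A M : Type*} [CommRing A] [AddCommGroup M] [Module A M] {n : ℕ} (φ : MvPolynomial (Fin n) ℤ →+* A)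
    (D : Derivation ℤ A M) (q : MvPolynomial (Fin n) ℤ) :
    D (φ q) = ∑ l, φ (pderiv l q) • D (φ (X l)) := by
  induction q using MvPolynomial.induction_on with
  | C r =>
    rw [show φ (C r) = algebraMap ℤ A r from by simp [eq_intCast], D.map_algebraMap]
    simp
  | add p q hp hq => simp only [map_add, hp, hq, add_smul, Finset.sum_add_distrib]
  | mul_X p i hp =>
    rw [map_mul, D.leibniz, hp, Finset.smul_sum]
    simp only [pderiv_mul, map_add, map_mul, add_smul, Finset.sum_add_distrib, smul_smul]
    rw [add_comm]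
    refine congrArg₂ (· + ·) (Finset.sum_congr rfl fun l _ => by rw [mul_comm]) ?_
    rw [Finset.sum_eq_single_of_mem i (Finset.mem_univ i) (fun l _ hl => by
      rw [pderiv_X_of_ne hl.symm, map_zero, mul_zero, zero_smul]), pderiv_X_self, map_one, mul_one]

theorem exists_universal (p : ℕ) [hp : Fact p.Prime] (i : ℕ) : ∃ z : ℕ → MvPolynomial (Fin 2) ℤ,
    z 0 = X 0 + X 1 ∧ ∀ l, ∑ j ∈ Finset.range (i + 1), z j ^ (p ^ (i - j) - 1) * pderiv l (z j) =
      X l ^ (p ^ i - 1) := by
  let w : WittVector p (MvPolynomial (Fin 2) ℤ) := WittVector.teichmuller p (X 0) + WittVector.teichmuller p (X 1)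
  refine ⟨fun j => w.coeff j, ?_, fun l => ?_⟩
  · simp [w, WittVector.add_coeff_zero, WittVector.teichmuller_coeff_zero]
  have hg := WittVector.ghostComponent_apply (p := p) i w
  rw [map_add, WittVector.ghostComponent_teichmuller, WittVector.ghostComponent_teichmuller,
    wittPolynomial_eq_sum_C_mul_X_pow, map_sum] at hg
  simp only [map_mul, map_pow, MvPolynomial.aeval_X, MvPolynomial.aeval_C] at hg
  have hd := congrArg (pderiv l) hg
  rw [map_add, map_sum] at hd
  have hne : (p : MvPolynomial (Fin 2) ℤ) ^ i ≠ 0 := pow_ne_zero _ (by exact_mod_cast hp.1.ne_zero)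
  refine mul_left_cancel₀ hne ?_
  have hterm : ∀ j ∈ Finset.range (i + 1), pderiv l ((algebraMap ℤ (MvPolynomial (Fin 2) ℤ)) (p : ℤ) ^ j * w.coeff j ^ p ^ (i - j)) =
      (p : MvPolynomial (Fin 2) ℤ) ^ i * (w.coeff j ^ (p ^ (i - j) - 1) * pderiv l (w.coeff j)) := by
    intro j hj
    rw [map_natCast, pderiv_mul, ← Nat.cast_pow, Derivation.map_natCast, zero_mul, zero_add, pderiv_pow]
    simp only [Nat.cast_pow]
    rw [← pow_mul_pow_sub (p : MvPolynomial (Fin 2) ℤ) (Nat.lt_succ_iff.1 (Finset.mem_range.1 hj))]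
    ring
  rw [Finset.mul_sum, ← Finset.sum_congr rfl hterm]
  refine hd.symm.trans ?_
  rw [pderiv_pow, pderiv_pow]
  fin_cases l <;> simp [pderiv_X_of_ne (show (0 : Fin 2) ≠ 1 by decide), pderiv_X_of_ne (show (1 : Fin 2) ≠ 0 by decide)]

variable (K : Type u) (A : Type v) [CommRing K] [CommRing A] [Algebra K A] (p : ℕ)

/-- The subgroup generated by `x^(p^j-1) dx`, `j < i`. -/
noncomputable def sub (i : ℕ) : AddSubgroup (Ω[A⁄K]) :=
  AddSubgroup.closure (⋃ j ∈ Finset.range i, Set.range (delta K A p j))

theorem delta_mem {i j : ℕ} (h : j < i) (x : A) : delta K A p j x ∈ sub K A p i :=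
  AddSubgroup.subset_closure (Set.mem_biUnion (Finset.mem_range.2 h) ⟨x, rfl⟩)

theorem delta_zero' (i : ℕ) : delta K A p i 0 = 0 := by simp [delta]

theorem defect_mem [hp : Fact p.Prime] (i : ℕ) (x y : A) :
    delta K A p i (x + y) - delta K A p i x - delta K A p i y ∈ sub K A p i := by
  obtain ⟨z, hz0, hz⟩ := exists_universal p i
  let φ : MvPolynomial (Fin 2) ℤ →+* A := (MvPolynomial.aeval ![x, y]).toRingHom
  let D : Derivation ℤ A (Ω[A⁄K]) := (KaehlerDifferential.D K A).restrictScalars ℤ
  have hX0 : φ (X 0) = x := by simp [φ]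
  have hX1 : φ (X 1) = y := by simp [φ]
  have key : ∑ j ∈ Finset.range (i + 1), delta K A p (i - j) (φ (z j)) = delta K A p i x + delta K A p i y := by
    have h1 : ∀ j, delta K A p (i - j) (φ (z j)) =
        ∑ l, φ (z j ^ (p ^ (i - j) - 1) * pderiv l (z j)) • D (φ (X l)) := fun j => by
      show φ (z j) ^ _ • D (φ (z j)) = _
      rw [chain_rule φ D, Finset.smul_sum]
      exact Finset.sum_congr rfl fun l _ => by rw [smul_smul, map_mul, map_pow]
    simp only [h1]
    rw [Finset.sum_comm]
    simp only [← Finset.sum_smul, ← map_sum, hz, map_pow, Fin.sum_univ_two, hX0, hX1]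
    rfl
  rw [Finset.sum_range_succ', hz0, Nat.sub_zero, map_add, hX0, hX1] at key
  have h2 : delta K A p i (x + y) - delta K A p i x - delta K A p i y =
      -∑ j ∈ Finset.range i, delta K A p (i - (j + 1)) (φ (z (j + 1))) := by
    rw [eq_neg_iff_add_eq_zero, ← sub_eq_zero.2 key]
    abel
  rw [h2]
  refine neg_mem (sum_mem fun j hj => delta_mem K A p (by have := Finset.mem_range.1 hj; omega) _)

theorem sigma_eq [hp : Fact p.Prime] (i : ℕ) : sigma K A p i = (sub K A p i : Set (Ω[A⁄K])) := by
  induction i with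
  | zero => simp [sub, sigma_zero]
  | succ i ih =>
    apply subset_antisymm
    · rintro ω ⟨x, hx⟩
      rw [ih] at hx
      have hle : sub K A p i ≤ sub K A p (i + 1) := AddSubgroup.closure_mono
        (Set.biUnion_subset_biUnion_left (Finset.coe_subset.2 (Finset.range_mono i.le_succ)))
      have := add_mem (hle hx) (delta_mem K A p i.lt_succ_self x)
      simpa using this
    · intro ω hω
      induction hω using AddSubgroup.closure_induction with
      | mem ω hω =>
        simp only [Set.mem_iUnion, Finset.mem_range, Set.mem_range] at hω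
        obtain ⟨j, hj, x, rfl⟩ := hω
        rcases Nat.lt_succ_iff_lt_or_eq.1 hj with hj | rfl
        · exact ⟨0, by rw [delta_zero', sub_zero, ih]; exact delta_mem K A p hj x⟩
        · exact ⟨x, by rw [sub_self, ih]; exact zero_mem _⟩
      | zero => exact ⟨0, by rw [delta_zero', sub_zero, ih]; exact zero_mem _⟩
      | add a b _ _ ha hb =>
        obtain ⟨x, hx⟩ := ha; obtain ⟨y, hy⟩ := hb
        rw [ih] at hx hy
        refine ⟨x + y, ?_⟩
        rw [ih, show a + b - delta K A p i (x + y) = (a - delta K A p i x) + (b - delta K A p i y) -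
          (delta K A p i (x + y) - delta K A p i x - delta K A p i y) by abel]
        exact sub_mem (add_mem hx hy) (defect_mem K A p i x y)
      | neg a _ ha =>
        obtain ⟨x, hx⟩ := ha
        rw [ih] at hx
        refine ⟨-x, ?_⟩
        have hd := defect_mem K A p i x (-x)
        rw [add_neg_cancel, delta_zero'] at hd
        rw [ih, show -a - delta K A p i (-x) = -(a - delta K A p i x) + (0 - delta K A p i x - delta K A p i (-x)) by abel]
        exact add_mem (neg_mem hx) hd

end Groth.Agent.CAlg7.PDiffSigma
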