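import Groth.Agent.Ega11.RegLocal
import Groth.Agent.SGA3a.RegKernel
import Mathlib.RingTheory.Regular.IsSMulRegular
import Mathlib.RingTheory.Ideal.AssociatedPrime.Finiteness
import Mathlib.RingTheory.OrzechProperty
import Mathlib.LinearAlgebra.TensorProduct.Pi
import Mathlib.LinearAlgebra.TensorProduct.RightExactness
import Mathlib.LinearAlgebra.Dimension.StrongRankCondition
import Mathlib.LinearAlgebra.Matrix.ToLin

/-!
Matrix factorisations for maximal Cohen-Macaulay modules over plane curve singularities.
-/

set_option autoImplicit false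
set_option linter.style.haveILetI false

universe u

open IsLocalRing

namespace Groth.Agent.CAlg7

/-- Over a two-dimensional regular local ring, the kernel of a map from a finite free module to a module
with a regular element outside the square of the maximal ideal is free. -/
theorem free_ker_of_regular_notMem_sq {R : Type u} [CommRing R] [IsRegularLocalRing R]
    (h2 : (maximalIdeal R).spanFinrank ≤ 2) {M : Type u} [AddCommGroup M] [Module R M]
    {x : R} (hx : x ∈ maximalIdeal R) (hx2 : x ∉ maximalIdeal R ^ 2) (hxM : IsSMulRegular M x)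
    {n : ℕ} (g : (Fin n → R) →ₗ[R] M) : Module.Free R (LinearMap.ker g) := by
  have := Ega11.RegLocal.isDomain R
  have hx0 : x ≠ 0 := fun hx0 => hx2 (hx0 ▸ zero_mem _)
  obtain ⟨hreg, -⟩ := Ega11.RegLocal.regular_quotient hx hx2
  have := Ega11.RegLocal.isDomain (R ⧸ Ideal.span {x})
  have : IsPrincipalIdealRing (R ⧸ Ideal.span {x}) := by
    refine SGA3a.isPrincipalIdealRing_of_spanFinrank_le_one ?_
    have h3 := Ega11.RegLocal.spanFinrank_quotient_succ_le hx hx2
    rw [show (maximalIdeal R).map (Ideal.Quotient.mk (Ideal.span {x})) = maximalIdeal (R ⧸ Ideal.span {x}) from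
      map_maximalIdeal_of_surjective _ Ideal.Quotient.mk_surjective] at h3
    omega
  set K := LinearMap.ker g with hK
  let mk := Ideal.Quotient.mk (Ideal.span {x})
  let q : K →ₗ[R] (Fin n → R ⧸ Ideal.span {x}) :=
    { toFun := fun v i => mk ((v : Fin n → R) i)
      map_add' := fun a b => funext fun i => by simp [mk]
      map_smul' := fun c a => funext fun i => by simp [mk, Algebra.smul_def] }
  have hker : ∀ v : K, q v = 0 → ∃ w : K, x • w = v := by
    intro v hv
    have : ∀ i, ∃ c, c * x = (v : Fin n → R) i := fun i =>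
      Ideal.mem_span_singleton'.1 (Ideal.Quotient.eq_zero_iff_mem.1 (congrFun hv i))
    choose c hc using this
    have hv' : x • c = (v : Fin n → R) := funext fun i => by simp [← hc i, mul_comm]
    have hg : x • g c = x • (0 : M) := by rw [← map_smul, hv', smul_zero]; exact v.2
    exact ⟨⟨c, hxM hg⟩, Subtype.ext hv'⟩
  let Kb : Submodule (R ⧸ Ideal.span {x}) (Fin n → R ⧸ Ideal.span {x}) :=
    { carrier := Set.range q
      add_mem' := by rintro _ _ ⟨a, rfl⟩ ⟨b, rfl⟩; exact ⟨a + b, map_add _ _ _⟩
      zero_mem' := ⟨0, map_zero _⟩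
      smul_mem' := by
        rintro c _ ⟨a, rfl⟩
        obtain ⟨r, rfl⟩ := Ideal.Quotient.mk_surjective c
        exact ⟨r • a, by rw [map_smul]; funext i; simp [Algebra.smul_def]⟩ }
  obtain ⟨r, b⟩ : Σ r, Module.Basis (Fin r) (R ⧸ Ideal.span {x}) Kb := Module.basisOfFiniteTypeTorsionFree'
  choose w hw using fun i => (b i).2
  let Φ := Fintype.linearCombination R w
  have hq : ∀ c : Fin r → R, q (Φ c) = (b.equivFun.symm (fun i => mk (c i)) : Kb).1 := by
    intro c
    rw [Fintype.linearCombination_apply, map_sum, b.equivFun_symm_apply]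
    simp only [map_smul, hw, Submodule.coe_sum, Submodule.coe_smul]
    exact Finset.sum_congr rfl fun i _ => funext fun j => by simp [Algebra.smul_def, mk]
  have hxj : Ideal.span {x} ≤ Ideal.jacobson ⊥ :=
    ((Ideal.span_singleton_le_iff_mem _).2 hx).trans (maximalIdeal_le_jacobson ⊥)
  have hsurj : Function.Surjective Φ := by
    rw [← LinearMap.range_eq_top, eq_top_iff]
    refine Submodule.le_of_le_smul_of_le_jacobson_bot (I := Ideal.span {x}) Module.Finite.fg_top hxj fun v _ => ?_
    choose c hc using fun i => Ideal.Quotient.mk_surjective (b.equivFun ⟨q v, v, rfl⟩ i)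
    obtain ⟨u, hu⟩ := hker (v - Φ c) (by
      rw [map_sub, hq, show (fun i => mk (c i)) = b.equivFun ⟨q v, v, rfl⟩ from funext hc,
        LinearEquiv.symm_apply_apply, sub_self])
    exact Submodule.mem_sup.2 ⟨Φ c, ⟨c, rfl⟩, v - Φ c,
      hu ▸ Submodule.smul_mem_smul (Ideal.mem_span_singleton_self x) trivial, by abel⟩
  have hinj : Function.Injective Φ := by
    rw [← LinearMap.ker_eq_bot]
    refine Submodule.eq_bot_of_le_smul_of_le_jacobson_bot (Ideal.span {x}) _ (IsNoetherian.noetherian _)
      (fun c hc => ?_) hxj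
    have h0 : (b.equivFun.symm (fun i => mk (c i)) : Kb) = 0 := Subtype.ext (by
      rw [← hq, show Φ c = 0 from hc]; exact map_zero q)
    rw [LinearEquiv.map_eq_zero_iff] at h0
    choose d hd using fun i => Ideal.mem_span_singleton'.1 (Ideal.Quotient.eq_zero_iff_mem.1 (congrFun h0 i))
    have hc' : x • d = c := funext fun i => by simp [← hd i, mul_comm]
    rw [← hc']
    refine Submodule.smul_mem_smul (Ideal.mem_span_singleton_self x) ?_
    have hz : x • (Φ d : K) = 0 := by rw [← map_smul, hc']; exact hc
    refine Subtype.ext ?_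
    exact (smul_eq_zero.1 (congrArg Subtype.val hz : x • (Φ d : K).1 = 0)).resolve_left hx0
  exact Module.Free.of_equiv (LinearEquiv.ofBijective Φ ⟨hinj, hsurj⟩)

variable {S : Type u} [CommRing S] [IsRegularLocalRing S] {R : Type u} [CommRing R] [IsLocalRing R]
  {M : Type u} [AddCommGroup M] [Module R M] [Module.Finite R M]

/-- A finite module with a regular element in the maximal ideal over a plane curve singularity `S/f`
has a matrix factorisation. -/
theorem exists_matrix_factorization (hS : ringKrullDim S = 2) (f : S) (hf : f ≠ 0) (π : S →+* R)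
    (hπ : Function.Surjective π) (hker : RingHom.ker π = Ideal.span {f}) (x : R)
    (hx : x ∈ maximalIdeal R) (hxM : IsSMulRegular M x) :
    ∃ (g : ℕ) (p : (Fin g → R) →ₗ[R] M) (φ ψ : (Fin g → R) →ₗ[R] (Fin g → R)),
      Function.Surjective p ∧ Function.Exact φ p ∧ Function.Exact ψ φ ∧ Function.Exact φ ψ := by
  classical
  haveI := Ega11.RegLocal.isDomain S
  obtain ⟨g, p, hp⟩ := Module.Finite.exists_fin' R M
  letI : Module S M := Module.compHom M π
  have hsm : ∀ (s : S) (m : M), s • m = π s • m := fun s m => rfl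
  let p0 : (Fin g → S) →ₗ[S] M :=
    { toFun := fun v => p (π ∘ v)
      map_add' := fun a b => by
        rw [← map_add]
        exact congrArg p (funext fun i => map_add π _ _)
      map_smul' := fun s a => by
        rw [RingHom.id_apply, hsm, ← map_smul]
        exact congrArg p (funext fun i => by simp) }
  have hlift : ∀ v : Fin g → R, ∃ w : Fin g → S, π ∘ w = v := fun v =>
    ⟨fun i => (hπ (v i)).choose, funext fun i => (hπ (v i)).choose_spec⟩
  have hp0 : Function.Surjective p0 := fun m => by
    obtain ⟨v, rfl⟩ := hp m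
    obtain ⟨w, rfl⟩ := hlift v
    exact ⟨w, rfl⟩
  haveI : Module.Finite S M := Module.Finite.of_surjective p0 hp0
  -- a regular element outside the square of the maximal ideal
  obtain ⟨s0, rfl⟩ := hπ x
  haveI hloc : IsLocalHom π := by
    haveI : IsLocalHom π := ⟨fun a ha => by
      by_contra hna
      have hne : RingHom.ker π ≠ ⊤ := RingHom.ker_ne_top π
      obtain ⟨b, hb⟩ := hπ ((ha.unit⁻¹ : Rˣ) : R)
      have h1 : a * b - 1 ∈ maximalIdeal S := le_maximalIdeal hne (by
        rw [RingHom.mem_ker, map_sub, map_mul, hb, map_one, IsUnit.mul_val_inv, sub_self])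
      exact (maximalIdeal S).one_notMem (by
        have h2 := sub_mem ((maximalIdeal S).mul_mem_right b ((mem_maximalIdeal a).2 hna)) h1
        rwa [sub_sub_cancel] at h2)⟩
    assumption
  have hs0 : s0 ∈ maximalIdeal S := (mem_maximalIdeal s0).2 fun h => (mem_maximalIdeal _).1 hx (h.map π)
  have hs0M : IsSMulRegular M s0 := fun a b h => hxM h
  have hspan : (maximalIdeal S).spanFinrank = 2 := by
    have := IsRegularLocalRing.spanFinrank_maximalIdeal (R := S)
    rw [hS] at this
    exact_mod_cast this
  obtain ⟨s, hs, hs2, hsM⟩ : ∃ s ∈ maximalIdeal S, s ∉ maximalIdeal S ^ 2 ∧ IsSMulRegular M s := by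
    by_contra hc
    push Not at hc
    have hfin : (insert (maximalIdeal S ^ 2) (associatedPrimes S M)).Finite :=
      (associatedPrimes.finite S M).insert _
    have hsub : (maximalIdeal S : Set S) ⊆ ⋃ P ∈ insert (maximalIdeal S ^ 2) (associatedPrimes S M), (P : Set S) := by
      intro a ha
      rw [Set.biUnion_insert, biUnion_associatedPrimes_eq_compl_regular]
      by_cases ha2 : a ∈ maximalIdeal S ^ 2
      · exact Or.inl ha2
      · exact Or.inr (hc a ha ha2)
    obtain ⟨P, hP, hle⟩ := (Ideal.subset_union_prime_finite hfin (f := id) (maximalIdeal S ^ 2)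
      (maximalIdeal S ^ 2) (fun P hP hne _ => ((Set.mem_insert_iff.1 hP).resolve_left hne).isPrime)).1 hsub
    rcases Set.mem_insert_iff.1 hP with rfl | hP
    · have hbot : maximalIdeal S = ⊥ := Submodule.eq_bot_of_le_smul_of_le_jacobson_bot (maximalIdeal S)
        (maximalIdeal S) (IsNoetherian.noetherian _)
        (by rw [Ideal.smul_eq_mul, ← pow_two]; exact hle) (maximalIdeal_le_jacobson ⊥)
      rw [hbot, Submodule.spanFinrank_bot] at hspan
      omega
    · have hmem : s0 ∈ ⋃ P ∈ associatedPrimes S M, (P : Set S) :=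
        Set.mem_biUnion hP (show s0 ∈ P from hle hs0)
      rw [biUnion_associatedPrimes_eq_compl_regular] at hmem
      exact hmem hs0M
  haveI := free_ker_of_regular_notMem_sq hspan.le hs hs2 hsM p0
  have hfK : ∀ v : Fin g → S, f • v ∈ LinearMap.ker p0 := fun v => by
    rw [LinearMap.mem_ker, map_smul, hsm, (RingHom.mem_ker (f := π)).1 (hker ▸ Ideal.mem_span_singleton_self f), zero_smul]
  let ψ1 : (Fin g → S) →ₗ[S] LinearMap.ker p0 := (f • LinearMap.id).codRestrict _ hfK
  have hψ1 : Function.Injective ψ1 := fun a b h =>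
    smul_right_injective (Fin g → S) hf (congrArg Subtype.val h)
  have hrank : Module.finrank S (LinearMap.ker p0) = g := by
    refine le_antisymm ?_ ?_
    · have h := LinearMap.finrank_le_finrank_of_injective (LinearMap.ker p0).injective_subtype
      rwa [Module.finrank_fin_fun] at h
    · have h := LinearMap.finrank_le_finrank_of_injective hψ1
      rwa [Module.finrank_fin_fun] at h
  let b := Module.finBasisOfFinrankEq S (LinearMap.ker p0) hrank
  let φ0 : (Fin g → S) →ₗ[S] (Fin g → S) :=
    (LinearMap.ker p0).subtype ∘ₗ b.equivFun.symm.toLinearMap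
  let ψ0 : (Fin g → S) →ₗ[S] (Fin g → S) := b.equivFun.toLinearMap ∘ₗ ψ1
  have hφψ : ∀ v, φ0 (ψ0 v) = f • v := fun v => by simp [φ0, ψ0, ψ1]
  have hφinj : Function.Injective φ0 :=
    (LinearMap.ker p0).injective_subtype.comp b.equivFun.symm.injective
  have hψφ : ∀ v, ψ0 (φ0 v) = f • v := fun v => hφinj (by rw [hφψ, map_smul])
  have hφp : ∀ v, p0 (φ0 v) = 0 := fun v => (b.equivFun.symm v).2
  have hpφ : ∀ v, p0 v = 0 → ∃ w, φ0 w = v := fun v hv => ⟨b.equivFun ⟨v, hv⟩, by simp [φ0]⟩
  -- pass to R
  let red : ((Fin g → S) →ₗ[S] (Fin g → S)) → ((Fin g → R) →ₗ[R] (Fin g → R)) :=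
    fun A => Matrix.mulVecLin ((LinearMap.toMatrix' A).map π)
  have hred : ∀ A v, red A (π ∘ v) = π ∘ (A v) := fun A v => funext fun i => by
    show (((LinearMap.toMatrix' A).map π).mulVec (π ∘ v)) i = π (A v i)
    rw [← RingHom.map_mulVec, LinearMap.toMatrix'_mulVec]
  have hcong : ∀ v : Fin g → S, π ∘ v = 0 → ∃ z, v = f • z := fun v hv => by
    have : ∀ i, ∃ c, c * f = v i := fun i =>
      Ideal.mem_span_singleton'.1 (hker ▸ (RingHom.mem_ker (f := π)).2 (congrFun hv i))
    choose c hc using this
    exact ⟨c, funext fun i => by rw [Pi.smul_apply, smul_eq_mul, mul_comm, hc]⟩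
  have hf0 : ∀ z : Fin g → S, π ∘ (f • z) = 0 := fun z => funext fun i => by
    simp [(RingHom.mem_ker (f := π)).1 (hker ▸ Ideal.mem_span_singleton_self f)]
  refine ⟨g, p, red φ0, red ψ0, hp, fun v => ?_, fun v => ?_, fun v => ?_⟩
  · obtain ⟨v, rfl⟩ := hlift v
    constructor
    · intro h
      obtain ⟨w, rfl⟩ := hpφ v h
      exact ⟨π ∘ w, hred φ0 w⟩
    · rintro ⟨w, hw⟩
      obtain ⟨w, rfl⟩ := hlift w
      rw [← hw, hred]
      exact hφp w
  · obtain ⟨v, rfl⟩ := hlift v
    constructor
    · intro h
      rw [hred] at h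
      obtain ⟨z, hz⟩ := hcong _ h
      rw [← hφψ] at hz
      exact ⟨π ∘ z, by rw [hred, hφinj hz]⟩
    · rintro ⟨w, hw⟩
      obtain ⟨w, rfl⟩ := hlift w
      rw [← hw, hred, hred, hφψ, hf0]
  · obtain ⟨v, rfl⟩ := hlift v
    have hψinj : Function.Injective ψ0 := fun a b h =>
      smul_right_injective (Fin g → S) hf (by simp only [← hφψ, h])
    constructor
    · intro h
      rw [hred] at h
      obtain ⟨z, hz⟩ := hcong _ h
      rw [← hψφ] at hz
      exact ⟨π ∘ z, by rw [hred, hψinj hz]⟩
    · rintro ⟨w, hw⟩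
      obtain ⟨w, rfl⟩ := hlift w
      rw [← hw, hred, hred, hψφ, hf0]

omit [IsLocalRing R] in
/-- A module killed by both `I` and `J` is killed by everything in their sum. -/
theorem smul_tensor_eq_zero {L : Type u} [AddCommGroup L] [Module R L] {I J : Ideal R}
    (hI : I ≤ Module.annihilator R M) (hJ : J ≤ Module.annihilator R L) {r : R} (hr : r ∈ I ⊔ J)
    (t : TensorProduct R M L) : r • t = 0 := by
  induction t using TensorProduct.induction_on with
  | zero => exact smul_zero r
  | add a b ha hb => rw [smul_add, ha, hb, add_zero]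
  | tmul m l =>
    obtain ⟨i, hi, j, hj, rfl⟩ := Submodule.mem_sup.1 hr
    rw [add_smul, TensorProduct.smul_tmul', Module.mem_annihilator.1 (hI hi) m, TensorProduct.zero_tmul,
      TensorProduct.smul_tmul', TensorProduct.smul_tmul, Module.mem_annihilator.1 (hJ hj) l,
      TensorProduct.tmul_zero, add_zero]

omit [IsLocalRing R] in
/-- An endomorphism with torsion cokernel of a finite module without `x`-torsion is injective. -/
theorem injective_of_coker_torsion {P : Type u} [AddCommGroup P] [Module R P] [Module.Finite R P]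
    (x : R) (hx : IsSMulRegular P x) (E : P →ₗ[R] P) (n : ℕ) (h : ∀ v, x ^ n • v ∈ LinearMap.range E) :
    Function.Injective E := by
  let T := Submonoid.powers x
  let E' := LocalizedModule.map T E
  have hs : Function.Surjective E' := fun q => by
    induction q using LocalizedModule.induction_on with
    | _ v t =>
      obtain ⟨w, hw⟩ := h v
      refine ⟨LocalizedModule.mk w ((⟨x ^ n, ⟨n, rfl⟩⟩ : T) * t), ?_⟩
      show LocalizedModule.map T E _ = _
      rw [LocalizedModule.map_mk, hw]
      exact LocalizedModule.mk_cancel_common_left (⟨x ^ n, ⟨n, rfl⟩⟩ : T) t v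
  haveI : Module.Finite (Localization T) (LocalizedModule T P) := Module.Finite.of_isLocalizedModule T (LocalizedModule.mkLinearMap T P)
  have hi := OrzechProperty.injective_of_surjective_endomorphism E' hs
  intro a b hab
  have h2 : LocalizedModule.mk a (1 : T) = LocalizedModule.mk b 1 := hi (by
    show LocalizedModule.map T E _ = LocalizedModule.map T E _
    rw [LocalizedModule.map_mk, LocalizedModule.map_mk, hab])
  obtain ⟨⟨_, k, rfl⟩, hk⟩ := LocalizedModule.mk_eq.1 h2
  simp only [one_smul, Submonoid.smul_def] at hk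
  exact (hx.pow k) hk

end Groth.Agent.CAlg7
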