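import Mathlib.RingTheory.Valuation.LocalSubring
import Mathlib.RingTheory.Valuation.ValuationSubring
import Mathlib.RingTheory.KrullDimension.Polynomial
import Mathlib.RingTheory.KrullDimension.Field
import Mathlib.RingTheory.Localization.FractionRing
import Mathlib.RingTheory.IntegralClosure.IsIntegralClosure.Basic
import Mathlib.Algebra.BigOperators.Fin
import Groth.Agent.EGA4Alg4.IntegralDim

/-!
Noether normalisation by valuations.
-/

set_option autoImplicit false
set_option linter.style.haveILetI false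

universe u v

open Polynomial

namespace Groth.Agent.CAlg7.ValNorm

/-- valuative criterion of integrality -/
theorem isIntegralElem_of_val {A B : Type u} [CommRing A] [CommRing B] (g : A →+* B) (b : B)
    (h : ∀ (L : Type u) [Field L] (φ : B →+* L) (O : ValuationSubring L), (∀ a, φ (g a) ∈ O) → φ b ∈ O) :
    g.IsIntegralElem b := by
  classical
  by_contra hb
  let S : Submonoid B :=
    { carrier := {x | ∃ p : A[X], p.Monic ∧ p.eval₂ g b = x}
      one_mem' := ⟨1, monic_one, eval₂_one g b⟩
      mul_mem' := by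
        rintro _ _ ⟨p, hp, rfl⟩ ⟨q, hq, rfl⟩
        exact ⟨p * q, hp.mul hq, eval₂_mul g b⟩ }
  have hdisj : Disjoint ((⊥ : Ideal B) : Set B) S := by
    rw [Set.disjoint_left]
    rintro x hx ⟨p, hp, hpx⟩
    exact hb ⟨p, hp, hpx.trans hx⟩
  obtain ⟨P, hP, -, hPS⟩ := Ideal.exists_le_prime_disjoint ⊥ S hdisj
  let L := FractionRing (B ⧸ P)
  let φ : B →+* L := (algebraMap (B ⧸ P) L).comp (Ideal.Quotient.mk P)
  have hnot : φ b ∉ (integralClosure (Subring.closure (Set.range fun a => φ (g a))) L).toSubring := by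
    intro hm
    obtain ⟨q, hq, hq'⟩ := hm
    have hcl : Subring.closure (Set.range fun a => φ (g a)) = (φ.comp g).range :=
      le_antisymm (Subring.closure_le.mpr (by rintro _ ⟨a, rfl⟩; exact ⟨a, rfl⟩))
        (by rintro _ ⟨a, rfl⟩; exact Subring.subset_closure ⟨a, rfl⟩)
    have hl : q ∈ Polynomial.lifts ((φ.comp g).codRestrict (Subring.closure (Set.range fun a => φ (g a)))
        (fun a => Subring.subset_closure ⟨a, rfl⟩)) := by
      rw [Polynomial.lifts_iff_coeff_lifts]
      intro n
      obtain ⟨a, ha⟩ := hcl.le (q.coeff n).2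
      exact ⟨a, Subtype.ext ha⟩
    obtain ⟨p, hp, -, hpm⟩ := Polynomial.lifts_and_natDegree_eq_and_monic hl hq
    rw [← hp, Polynomial.eval₂_map] at hq'
    have h0 : φ (p.eval₂ g b) = 0 := by
      rw [Polynomial.hom_eval₂]; exact hq'
    have hmem : p.eval₂ g b ∈ P := by
      have : algebraMap (B ⧸ P) L (Ideal.Quotient.mk P (p.eval₂ g b)) = 0 := h0
      rwa [map_eq_zero_iff _ (IsFractionRing.injective (B ⧸ P) L), Ideal.Quotient.eq_zero_iff_mem] at this
    exact Set.disjoint_left.mp hPS hmem ⟨p, hpm, rfl⟩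
  rw [← iInf_valuationSubring_superset, Subring.mem_iInf] at hnot
  push Not at hnot
  obtain ⟨⟨O, hO⟩, hnO⟩ := hnot
  exact hnO (h L φ O fun a => hO ⟨a, rfl⟩)

/-- elements of the integral closure lie in the valuation ring -/
theorem mem_of_isIntegralElem {A B : Type u} {L : Type u} [CommRing A] [CommRing B] [Field L] (g : A →+* B)
    (φ : B →+* L) (O : ValuationSubring L) (hg : ∀ a, φ (g a) ∈ O) {b : B} (hb : g.IsIntegralElem b) : φ b ∈ O := by
  obtain ⟨p, hp, hpb⟩ := hb
  have hint : IsIntegral O (φ b) := by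
    refine ⟨p.map ((φ.comp g).codRestrict O.toSubring hg), hp.map _, ?_⟩
    rw [Polynomial.eval₂_map]
    show p.eval₂ (φ.comp g) (φ b) = 0
    rw [← Polynomial.hom_eval₂, hpb, map_zero]
  obtain ⟨y, hy⟩ := IsIntegrallyClosed.isIntegral_iff.mp hint
  rw [← hy]
  exact y.2

theorem digits_inj {n e : ℕ} (α β : Fin n → ℕ) (hα : ∀ j, α j < e) (hβ : ∀ j, β j < e)
    (h : ∑ j, α j * e ^ (j : ℕ) = ∑ j, β j * e ^ (j : ℕ)) : α = β := by
  have h1 : finFunctionFinEquiv (fun j => (⟨α j, hα j⟩ : Fin e)) = finFunctionFinEquiv (fun j => (⟨β j, hβ j⟩ : Fin e)) :=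
    Fin.ext (by rw [finFunctionFinEquiv_apply, finFunctionFinEquiv_apply]; exact h)
  funext j
  exact congrArg Fin.val (congrFun (finFunctionFinEquiv.injective h1) j)

section field
variable {F B : Type u} [Field F] [CommRing B] [Algebra F B]

/-- integrality over the algebra generated by the tuple -/
def Gen {n : ℕ} (z : Fin n → B) : Prop :=
  (MvPolynomial.aeval z : MvPolynomial (Fin n) F →ₐ[F] B).toRingHom.IsIntegral

theorem range_mem {n : ℕ} (z : Fin n → B) {L : Type u} [Field L] (φ : B →+* L) (O : ValuationSubring L)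
    (hF : ∀ c : F, φ (algebraMap F B c) ∈ O) (hz : ∀ j, φ (z j) ∈ O) (a : MvPolynomial (Fin n) F) :
    φ (MvPolynomial.aeval z a) ∈ O := by
  induction a using MvPolynomial.induction_on with
  | C c => rw [MvPolynomial.aeval_C]; exact hF c
  | add p q hp hq => rw [map_add, map_add]; exact add_mem hp hq
  | mul_X p i hp => rw [map_mul, map_mul, MvPolynomial.aeval_X]; exact mul_mem hp (hz i)

/-- to have integrality it suffices that every valuation bounded on `w` is bounded on `z` -/
theorem gen_of_val {n m : ℕ} (z : Fin n → B) (w : Fin m → B) (hz : Gen (F := F) z)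
    (h : ∀ (L : Type u) [Field L] (φ : B →+* L) (O : ValuationSubring L),
      (∀ c : F, φ (algebraMap F B c) ∈ O) → (∀ j, φ (w j) ∈ O) → ∀ j, φ (z j) ∈ O) : Gen (F := F) w := fun b =>
  isIntegralElem_of_val _ b fun L _ φ O hO => by
    have hF : ∀ c : F, φ (algebraMap F B c) ∈ O := fun c => by
      simpa using hO (MvPolynomial.C c)
    refine mem_of_isIntegralElem _ φ O ?_ (hz b)
    exact range_mem z φ O hF (h L φ O hF fun j => by simpa using hO (MvPolynomial.X j))

theorem val_algebraMap {L : Type u} [Field L] (φ : B →+* L) (O : ValuationSubring L)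
    (hF : ∀ c : F, φ (algebraMap F B c) ∈ O) {c : F} (hc : c ≠ 0) : O.valuation (φ (algebraMap F B c)) = 1 := by
  refine le_antisymm ((O.valuation_le_one_iff _).mpr (hF c)) ?_
  have h1 := (O.valuation_le_one_iff _).mpr (hF c⁻¹)
  have h2 : O.valuation (φ (algebraMap F B c)) * O.valuation (φ (algebraMap F B c⁻¹)) = 1 := by
    rw [← map_mul, ← map_mul, ← map_mul, mul_inv_cancel₀ hc, map_one, map_one, map_one]
  calc (1 : O.ValueGroup) = _ := h2.symm
    _ ≤ O.valuation (φ (algebraMap F B c)) * 1 := mul_le_mul_right h1 _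
    _ = _ := mul_one _

/-- Nagata's substitution keeps integrality. -/
theorem nagata {m : ℕ} (z : Fin (m + 1) → B) (hz : Gen (F := F) z) (hdim : ringKrullDim B < ((m + 1 : ℕ) : WithBot ℕ∞)) :
    ∃ e₀ : ℕ, ∀ e, e₀ ≤ e → Gen (F := F) fun j : Fin m => z j.succ - z 0 ^ e ^ (j.succ : ℕ) := by
  classical
  obtain ⟨P, hP, hP0⟩ : ∃ P : MvPolynomial (Fin (m + 1)) F, MvPolynomial.aeval z P = 0 ∧ P ≠ 0 := by
    by_contra hne
    push Not at hne
    have hinj : Function.Injective (MvPolynomial.aeval z : MvPolynomial (Fin (m + 1)) F →ₐ[F] B) :=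
      (injective_iff_map_eq_zero _).mpr hne
    letI := (MvPolynomial.aeval z : MvPolynomial (Fin (m + 1)) F →ₐ[F] B).toRingHom.toAlgebra
    haveI : Algebra.IsIntegral (MvPolynomial (Fin (m + 1)) F) B := ⟨hz⟩
    rw [EGA4Alg4.ringKrullDim_eq_of_integral (MvPolynomial (Fin (m + 1)) F) B hinj,
      MvPolynomial.ringKrullDim_of_isNoetherianRing, ringKrullDim_eq_zero_of_field, zero_add, Nat.card_fin] at hdim
    exact lt_irrefl _ hdim
  refine ⟨P.totalDegree + 1, fun e he => gen_of_val z _ hz fun L _ φ O hF hw => ?_⟩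
  have hsucc : φ (z 0) ∈ O → ∀ j, φ (z j) ∈ O := by
    intro h0 j
    refine Fin.cases h0 (fun i => ?_) j
    have := add_mem (hw i) (pow_mem h0 (e ^ (i.succ : ℕ)))
    rw [← map_pow, ← map_add, sub_add_cancel] at this
    exact this
  by_cases h0 : φ (z 0) ∈ O
  · exact hsucc h0
  exfalso
  set W := O.valuation (φ (z 0)) with hW
  have hW1 : 1 < W := not_le.mp fun h => h0 ((O.valuation_le_one_iff _).mp h)
  have he0 : 0 < e := by omega
  have hval : ∀ j : Fin (m + 1), O.valuation (φ (z j)) = W ^ (e ^ (j : ℕ)) := fun j => by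
    refine Fin.cases (by simp [W]) (fun i => ?_) j
    have hlt : O.valuation (φ (z i.succ - z 0 ^ e ^ (i.succ : ℕ))) < O.valuation (φ (z 0 ^ e ^ (i.succ : ℕ))) := by
      refine lt_of_le_of_lt ((O.valuation_le_one_iff _).mpr (hw i)) ?_
      rw [map_pow, map_pow]
      exact one_lt_pow₀ hW1 (pow_pos he0 _).ne'
    have := O.valuation.map_add_eq_of_lt_right hlt
    rw [← map_add, sub_add_cancel] at this
    rw [this, map_pow, map_pow]
  let T : (Fin (m + 1) →₀ ℕ) → L := fun α => φ (MvPolynomial.aeval z (MvPolynomial.monomial α (P.coeff α)))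
  have hTv : ∀ α ∈ P.support, O.valuation (T α) = W ^ (∑ j, α j * e ^ (j : ℕ)) := fun α hα => by
    simp only [T, MvPolynomial.aeval_monomial]
    rw [map_mul, map_mul, val_algebraMap φ O hF (MvPolynomial.mem_support_iff.mp hα), one_mul,
      Finsupp.prod_fintype _ _ (fun i => pow_zero _), map_prod, map_prod, ← Finset.prod_pow_eq_pow_sum]
    refine Finset.prod_congr rfl fun j _ => ?_
    rw [map_pow, map_pow, hval, ← pow_mul, mul_comm]
  obtain ⟨α, hα, hmax⟩ := P.support.exists_max_image (fun α => ∑ j, α j * e ^ (j : ℕ))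
    (MvPolynomial.support_nonempty.mpr hP0)
  have hlt : ∀ β ∈ P.support \ {α}, O.valuation (T β) < O.valuation (T α) := fun β hβ => by
    rw [Finset.mem_sdiff, Finset.mem_singleton] at hβ
    rw [hTv β hβ.1, hTv α hα]
    refine pow_lt_pow_right₀ hW1 (lt_of_le_of_ne (hmax β hβ.1) fun heq => hβ.2 ?_)
    have hbd : ∀ γ ∈ P.support, ∀ j, γ j < e := fun γ hγ j => by
      have h1 := MvPolynomial.le_totalDegree hγ
      have h2 : γ j ≤ γ.sum fun _ n => n := by
        rw [Finsupp.sum_fintype _ _ (fun _ => rfl)]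
        exact Finset.single_le_sum (fun i _ => Nat.zero_le _) (Finset.mem_univ j)
      omega
    exact Finsupp.ext fun j => congrFun (digits_inj _ _ (hbd β hβ.1) (hbd α hα) heq) j
  have hsum : O.valuation (∑ β ∈ P.support, T β) = O.valuation (T α) := O.valuation.map_sum_eq_of_lt hα hlt
  rw [show ∑ β ∈ P.support, T β = φ (MvPolynomial.aeval z P) by
    conv_rhs => rw [P.as_sum]
    rw [map_sum, map_sum], hP, map_zero, map_zero, hTv α hα] at hsum
  exact (pow_ne_zero _ (ne_of_gt (zero_lt_one.trans hW1))) hsum.symm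

/-- Adding a high power of the parameters to arbitrary elements. -/
theorem perturb {d : ℕ} (x w : Fin d → B) (hw : Gen (F := F) w) :
    ∃ M₀ : ℕ, ∀ M, M₀ ≤ M → Gen (F := F) fun i => x i + w i ^ M := by
  classical
  choose P hPm hP using fun i => hw (x i)
  let D := ∑ i, ∑ k ∈ Finset.range ((P i).natDegree + 1), ((P i).coeff k).totalDegree
  refine ⟨D + 1, fun M hM => gen_of_val w _ hw fun L _ φ O hF hf => ?_⟩
  by_contra hne
  push Not at hne
  obtain ⟨j₀, hj₀⟩ := hne
  haveI : Nonempty (Fin d) := ⟨j₀⟩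
  obtain ⟨i, -, hi⟩ := Finset.univ.exists_max_image (fun j => O.valuation (φ (w j))) Finset.univ_nonempty
  set W := O.valuation (φ (w i))
  have hW1 : 1 < W := lt_of_lt_of_le (not_le.mp fun h => hj₀ ((O.valuation_le_one_iff _).mp h)) (hi j₀ (Finset.mem_univ _))
  have hmon : ∀ a : MvPolynomial (Fin d) F, a.totalDegree ≤ D → O.valuation (φ (MvPolynomial.aeval w a)) ≤ W ^ D := by
    intro a ha
    rw [a.as_sum, map_sum, map_sum]
    refine O.valuation.map_sum_le fun α hα => ?_
    rw [MvPolynomial.aeval_monomial, map_mul, map_mul, Finsupp.prod_fintype _ _ (fun i => pow_zero _), map_prod, map_prod]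
    refine (mul_le_of_le_one_left' ((O.valuation_le_one_iff _).mpr (hF _))).trans ?_
    calc ∏ j, O.valuation (φ (w j ^ α j)) ≤ ∏ j, W ^ α j := Finset.prod_le_prod' fun j _ => by
          rw [map_pow, map_pow]; exact pow_le_pow_left' (hi j (Finset.mem_univ j)) _
      _ = W ^ (∑ j, α j) := Finset.prod_pow_eq_pow_sum _ _ _
      _ ≤ W ^ D := pow_le_pow_right₀ hW1.le (le_trans (by
          have := MvPolynomial.le_totalDegree hα
          rwa [Finsupp.sum_fintype _ _ (fun _ => rfl)] at this) ha)
  have hx : O.valuation (φ (x i)) ≤ W ^ D := by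
    by_contra hlt
    rw [not_le] at hlt
    set Xv := O.valuation (φ (x i))
    have hX1 : 1 < Xv := lt_of_le_of_lt (one_le_pow₀ hW1.le) hlt
    let T : ℕ → L := fun k => φ (MvPolynomial.aeval w ((P i).coeff k)) * φ (x i) ^ k
    have hTn : O.valuation (T (P i).natDegree) = Xv ^ (P i).natDegree := by
      simp only [T, Polynomial.coeff_natDegree, (hPm i).leadingCoeff, map_one, one_mul, map_pow, Xv]
    have hTlt : ∀ k ∈ Finset.range ((P i).natDegree + 1) \ {(P i).natDegree},
        O.valuation (T k) < O.valuation (T (P i).natDegree) := fun k hk => by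
      rw [Finset.mem_sdiff, Finset.mem_range, Finset.mem_singleton] at hk
      rw [hTn]
      simp only [T, map_mul, map_pow]
      calc O.valuation (φ (MvPolynomial.aeval w ((P i).coeff k))) * Xv ^ k ≤ W ^ D * Xv ^ k := by
            refine mul_le_mul_left (hmon _ ?_) _
            exact le_trans (Finset.single_le_sum (f := fun k => ((P i).coeff k).totalDegree) (fun _ _ => Nat.zero_le _) (Finset.mem_range.mpr hk.1))
              (Finset.single_le_sum (f := fun i => ∑ k ∈ Finset.range ((P i).natDegree + 1), ((P i).coeff k).totalDegree)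
                (fun _ _ => Nat.zero_le _) (Finset.mem_univ i))
        _ < Xv * Xv ^ k := mul_lt_mul_of_pos_right hlt (pow_pos (zero_lt_one.trans hX1) _)
        _ = Xv ^ (k + 1) := (pow_succ' _ _).symm
        _ ≤ Xv ^ (P i).natDegree := pow_le_pow_right₀ hX1.le (by omega)
    have hsum := O.valuation.map_sum_eq_of_lt (Finset.self_mem_range_succ _) hTlt
    have h0 : ∑ k ∈ Finset.range ((P i).natDegree + 1), T k = 0 := by
      have := congrArg φ (hP i)
      rw [Polynomial.eval₂_eq_sum_range, map_sum, map_zero] at this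
      simpa [T] using this
    rw [h0, map_zero, hTn] at hsum
    exact (pow_ne_zero _ (ne_of_gt (zero_lt_one.trans hX1))) hsum.symm
  have hlt2 : O.valuation (φ (x i)) < O.valuation (φ (w i ^ M)) := by
    rw [map_pow, map_pow]
    exact lt_of_le_of_lt hx (pow_lt_pow_right₀ hW1 (by omega))
  have h1 := (O.valuation_le_one_iff _).mpr (hf i)
  rw [map_add, O.valuation.map_add_eq_of_lt_right hlt2, map_pow, map_pow] at h1
  exact absurd h1 (not_le.mpr (one_lt_pow₀ hW1 (by omega)))

end field

/-- Common parameters for two fibres inside a subring. -/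
theorem exists_params {R F G B C : Type u} [CommRing R] [Field F] [Field G] [CommRing B] [CommRing C]
    [Algebra F B] [Algebra G C] (β : R →+* B) (γ : R →+* C) (d : ℕ)
    (hB : ringKrullDim B ≤ d) (hC : ringKrullDim C ≤ d) (S : Subring R) :
    ∀ (m : ℕ) (z : Fin m → R), (∀ j, z j ∈ S) → Gen (F := F) (fun j => β (z j)) → Gen (F := G) (fun j => γ (z j)) →
      ∃ w : Fin d → R, (∀ i, w i ∈ S) ∧ Gen (F := F) (fun i => β (w i)) ∧ Gen (F := G) (fun i => γ (w i)) := by
  intro m
  induction m using Nat.strong_induction_on with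
  | _ m ih =>
    intro z hz hzB hzC
    rcases Nat.lt_or_ge d m with hdm | hmd
    · obtain ⟨m', rfl⟩ : ∃ m', m = m' + 1 := ⟨m - 1, by omega⟩
      have hlt : ∀ {X : Type u} [CommRing X], ringKrullDim X ≤ (d : WithBot ℕ∞) → ringKrullDim X < ((m' + 1 : ℕ) : WithBot ℕ∞) :=
        fun h => lt_of_le_of_lt h (by exact_mod_cast hdm)
      obtain ⟨e₁, he₁⟩ := nagata _ hzB (hlt hB)
      obtain ⟨e₂, he₂⟩ := nagata _ hzC (hlt hC)
      refine ih m' (by omega) (fun j => z j.succ - z 0 ^ (e₁ + e₂) ^ (j.succ : ℕ))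
        (fun j => sub_mem (hz _) (pow_mem (hz _) _)) ?_ ?_
      · simpa only [map_sub, map_pow] using he₁ (e₁ + e₂) (by omega)
      · simpa only [map_sub, map_pow] using he₂ (e₁ + e₂) (by omega)
    · let w : Fin d → R := fun i => if h : (i : ℕ) < m then z ⟨i, h⟩ else 0
      have hw : ∀ j : Fin m, w (Fin.castLE hmd j) = z j := fun j => by simp [w]
      refine ⟨w, fun i => ?_, gen_of_val _ _ hzB fun L _ φ O _ h j => hw j ▸ h _,
        gen_of_val _ _ hzC fun L _ φ O _ h j => hw j ▸ h _⟩
      simp only [w]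
      split
      · exact hz _
      · exact zero_mem _

end Groth.Agent.CAlg7.ValNorm
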